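import Cfsg.Agent.CubicBlock.Four
import Cfsg.Agent.Solvable.CoprimeAct
import Cfsg.Agent.Solvable.CoprimeAbelian

/-!
Subgroups of order prime to six normalised by an element with one cubic block: small fixed point
codimension restricts the primes to 5 and 13.
-/

set_option autoImplicit false
set_option linter.unusedSectionVars false
set_option linter.style.haveILetI false

namespace CfsgLib.CubicBlock

open Subgroup

variable {S : Type*} [Group S] [Finite S] {E : Type*} [AddCommGroup E] [Module (ZMod 3) E]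
  [Finite E] {ρ : Representation (ZMod 3) S E} {b g : S}

/-- Fixed vectors. -/
abbrev fixSp (ρ : Representation (ZMod 3) S E) (x : S) : Submodule (ZMod 3) E :=
  LinearMap.ker (ρ x - 1)

theorem mem_fixSp {x : S} {v : E} : v ∈ fixSp ρ x ↔ ρ x v = v := by
  rw [LinearMap.mem_ker, ← sub_eq_zero (a := ρ x v)]; rfl

theorem card_units_end (W : Type*) [AddCommGroup W] [Module (ZMod 3) W]
    [Module.Finite (ZMod 3) W] :
    Nat.card (Module.End (ZMod 3) W)ˣ =
      ∏ i : Fin (Module.finrank (ZMod 3) W), (3 ^ Module.finrank (ZMod 3) W - 3 ^ (i : ℕ)) := by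
  have e : (Module.End (ZMod 3) W)ˣ ≃ GL (Fin (Module.finrank (ZMod 3) W)) (ZMod 3) :=
    (Units.mapEquiv (LinearMap.toMatrixAlgEquiv (Module.finBasis (ZMod 3) W)).toMulEquiv).toEquiv
  rw [Nat.card_congr e, Matrix.card_GL_field, ZMod.card]

theorem pow_apply_shift {x : S} {v : E} (h : ρ x (ρ x v - v) = ρ x v - v) :
    ∀ n : ℕ, ρ (x ^ n) v = v + n • (ρ x v - v)
  | 0 => by rw [pow_zero, rho_one, zero_smul, add_zero]
  | n + 1 => by
    rw [pow_succ', rho_mul, pow_apply_shift h n, map_add, map_nsmul, h, succ_nsmul]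
    abel

theorem fix_of_unipotent {x : S} (hx : (orderOf x).Coprime 3) {v : E}
    (h : ρ x (ρ x v - v) = ρ x v - v) : ρ x v = v := by
  have h1 := pow_apply_shift h (orderOf x)
  rw [pow_orderOf_eq_one, rho_one, left_eq_add] at h1
  have h2 : ((orderOf x : ZMod 3)) • (ρ x v - v) = 0 := by rw [Nat.cast_smul_eq_nsmul, h1]
  refine sub_eq_zero.1 ((smul_eq_zero.1 h2).resolve_left fun h0 => ?_)
  have h3 := (ZMod.natCast_eq_zero_iff _ _).1 h0
  have := Nat.eq_one_of_dvd_coprimes hx h3 dvd_rfl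
  omega

/-- A group of order prime to three fixing `K` pointwise embeds in `GL(E ⧸ K)`. -/
theorem card_dvd_of_fix (H : Function.Injective ρ) {U : Subgroup S}
    (hU : (Nat.card U).Coprime 3) {K : Submodule (ZMod 3) E}
    (hfix : ∀ x ∈ U, ∀ v ∈ K, ρ x v = v) :
    Nat.card U ∣ ∏ i : Fin (Module.finrank (ZMod 3) (E ⧸ K)),
      (3 ^ Module.finrank (ZMod 3) (E ⧸ K) - 3 ^ (i : ℕ)) := by
  haveI : Module.Finite (ZMod 3) E := Module.Finite.of_finite
  let φ : U →* Module.End (ZMod 3) (E ⧸ K) :=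
    { toFun := fun x => K.mapQ K (ρ (x : S)) (fun v hv => by
        show ρ (x : S) v ∈ K
        rw [hfix x x.2 v hv]; exact hv)
      map_one' := Submodule.linearMap_qext _ (LinearMap.ext fun v => by
        show Submodule.Quotient.mk (ρ ((1 : U) : S) v) = Submodule.Quotient.mk v
        rw [Subgroup.coe_one, rho_one])
      map_mul' := fun x y => Submodule.linearMap_qext _ (LinearMap.ext fun v => by
        show Submodule.Quotient.mk (ρ ((x * y : U) : S) v) = Submodule.Quotient.mk _
        rw [Subgroup.coe_mul, rho_mul]) }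
  have hinj : Function.Injective φ.toHomUnits := by
    rw [injective_iff_map_eq_one]
    intro x hx
    have hx' : φ x = 1 := congrArg Units.val hx
    refine Subtype.ext (H (LinearMap.ext fun v => ?_))
    rw [Subgroup.coe_one, rho_one]
    refine fix_of_unipotent (Nat.Coprime.coprime_dvd_left (orderOf_dvd_natCard U x.2) hU)
      (hfix x x.2 _ ?_)
    have h2 : φ x (Submodule.Quotient.mk v) = Submodule.Quotient.mk v := by rw [hx']; rfl
    exact (Submodule.Quotient.eq K).1 h2
  rw [← card_units_end]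
  exact Subgroup.card_dvd_of_injective _ hinj

theorem dvd_small {d q : ℕ} (hd : d ≤ 2) (h : q ∣ ∏ i : Fin d, (3 ^ d - 3 ^ (i : ℕ))) :
    q ∣ 48 := by
  interval_cases d <;> simp [Fin.prod_univ_succ] at h
  · simp [h]
  · exact h.trans (by norm_num)
  · exact h

theorem dvd_medium {d q : ℕ} (hd : d ≤ 4) (h : q ∣ ∏ i : Fin d, (3 ^ d - 3 ^ (i : ℕ))) :
    q ∣ 24261120 := by
  interval_cases d <;> simp [Fin.prod_univ_succ] at h
  · simp [h]
  all_goals exact h.trans (by norm_num)

theorem finrank_quot {V : Type*} [AddCommGroup V] [Module (ZMod 3) V] [Module.Finite (ZMod 3) V]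
    (f : Module.End (ZMod 3) V) :
    Module.finrank (ZMod 3) (V ⧸ LinearMap.ker f) = Module.finrank (ZMod 3) (LinearMap.range f) :=
  LinearEquiv.finrank_eq f.quotKerEquivRange

theorem finrank_quot_inf {V : Type*} [AddCommGroup V] [Module (ZMod 3) V]
    [Module.Finite (ZMod 3) V] (A B : Submodule (ZMod 3) V) :
    Module.finrank (ZMod 3) (V ⧸ (A ⊓ B)) ≤
      Module.finrank (ZMod 3) (V ⧸ A) + Module.finrank (ZMod 3) (V ⧸ B) := by
  have h1 := (A ⊓ B).finrank_quotient_add_finrank
  have h2 := A.finrank_quotient_add_finrank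
  have h3 := B.finrank_quotient_add_finrank
  have h4 := Submodule.finrank_sup_add_finrank_inf_eq A B
  have h5 := (A ⊔ B).finrank_le
  omega

theorem Hyp.conj (H : Hyp ρ b) (f : S) : Hyp ρ (f * b * f⁻¹) := by
  haveI : Module.Finite (ZMod 3) E := Module.Finite.of_finite
  refine ⟨H.inj, by rw [conj_pow, H.cube, mul_one, mul_inv_cancel], ?_, ?_⟩
  · have hle : LinearMap.range (ρ (f * b * f⁻¹) - 1) ≤
        (LinearMap.range (ρ b - 1)).map (ρ f) := by
      rintro _ ⟨v, rfl⟩
      refine ⟨(ρ b - 1) (ρ f⁻¹ v), ⟨_, rfl⟩, ?_⟩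
      rw [d_apply, d_apply, map_sub, rho_mul, rho_mul, rho_apply_inv]
    exact ((Submodule.finrank_mono hle).trans (Submodule.finrank_map_le _ _)).trans H.rank
  · obtain ⟨v, hv⟩ := H.cubic
    refine ⟨ρ f v, fun h => hv ?_⟩
    have e : ∀ w, (ρ (f * b * f⁻¹) - 1) (ρ f w) = ρ f ((ρ b - 1) w) := fun w => by
      rw [d_apply, d_apply, map_sub, rho_mul, rho_mul, rho_inv_apply]
    rw [e, e] at h
    have := congrArg (ρ f⁻¹) h
    rwa [rho_inv_apply, map_zero] at this

/-- The space fixed by `f⁻¹ (b f b⁻¹)` contains a subspace of codimension four fixed by `b`. -/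
theorem Hyp.common_fix (H : Hyp ρ b) (f : S) : ∃ K : Submodule (ZMod 3) E,
    Module.finrank (ZMod 3) (E ⧸ K) ≤ 4 ∧ (∀ v ∈ K, ρ b v = v) ∧
      ∀ v ∈ K, ρ (f⁻¹ * (b * f * b⁻¹)) v = v := by
  haveI : Module.Finite (ZMod 3) E := Module.Finite.of_finite
  refine ⟨fixSp ρ (f⁻¹ * b * f) ⊓ fixSp ρ b, ?_, fun v hv => mem_fixSp.1 hv.2, fun v hv => ?_⟩
  · refine (finrank_quot_inf _ _).trans ?_
    have h1 := (H.conj f⁻¹).rank
    rw [inv_inv] at h1
    have h2 := H.rank
    rw [finrank_quot, finrank_quot]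
    omega
  · have hb : ρ b⁻¹ v = v := by
      conv_lhs => rw [← mem_fixSp.1 hv.2]
      exact rho_inv_apply ρ b v
    have e : f⁻¹ * (b * f * b⁻¹) = f⁻¹ * b * f * b⁻¹ := by group
    rw [e, rho_mul, hb, mem_fixSp.1 hv.1]

/-- An element of order prime to six commuting with `b` fixes `range (ρ b - 1)` pointwise. -/
theorem Hyp.fix_range (H : Hyp ρ b) {x : S} (hx : (orderOf x).Coprime 6)
    (hxb : x * b = b * x) (v : E) : ρ x ((ρ b - 1) v) = (ρ b - 1) v := by
  haveI : Module.Finite (ZMod 3) E := Module.Finite.of_finite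
  set W := LinearMap.range (ρ b - 1) with hW
  let U : Subgroup S := zpowers x
  have hinv : ∀ y ∈ U, ∀ w ∈ W, ρ y w ∈ W := by
    rintro y hy _ ⟨u, rfl⟩
    refine ⟨ρ y u, ?_⟩
    have hyb : y * b = b * y := by
      obtain ⟨n, rfl⟩ := mem_zpowers_iff.1 hy
      exact ((show Commute x b from hxb).zpow_left n).eq
    rw [d_apply, d_apply, map_sub, ← rho_mul, ← hyb, rho_mul]
  let φ : U →* Module.End (ZMod 3) W :=
    { toFun := fun y => (ρ (y : S)).restrict (hinv y y.2)
      map_one' := LinearMap.ext fun w => Subtype.ext (by simp)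
      map_mul' := fun y z => LinearMap.ext fun w => Subtype.ext (rho_mul ρ y z w) }
  let x' : U := ⟨x, mem_zpowers x⟩
  have h1 : orderOf (φ.toHomUnits x') ∣ orderOf x :=
    (orderOf_map_dvd _ x').trans (Subgroup.orderOf_coe x' ▸ dvd_rfl)
  have h2 : orderOf (φ.toHomUnits x') ∣ 48 := dvd_small H.rank
    (card_units_end W ▸ orderOf_dvd_natCard _)
  have h3 : (orderOf x).Coprime 48 := by
    refine Nat.Coprime.coprime_dvd_right (show 48 ∣ 6 ^ 4 by norm_num) (hx.pow_right 4)
  have h4 := orderOf_eq_one_iff.1 (Nat.eq_one_of_dvd_coprimes h3 h1 h2)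
  have h5 : φ x' = 1 := congrArg Units.val h4
  exact congrArg Subtype.val (LinearMap.congr_fun h5 ⟨(ρ b - 1) v, v, rfl⟩)

/-- A central element of `T = ⁅T, ⟨b⟩⁆` of order prime to six fixed by `b` is trivial. -/
theorem central_fixed_trivial (H : Hyp ρ b) {T : Subgroup S} (hgen : ⁅T, zpowers b⁆ = T) {z : S}
    (hzT : z ∈ T) (hzc : ∀ t ∈ T, z * t = t * z) (hz6 : (orderOf z).Coprime 6)
    (hzb : z * b = b * z) : z = 1 := by
  have h3 : (orderOf z).Coprime 3 := hz6.coprime_dvd_right (by norm_num)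
  let W : Set E := Set.range fun v => ρ z v - v
  have hWT : ∀ t ∈ T, ∀ w ∈ W, ρ t w ∈ W := by
    rintro t ht _ ⟨v, rfl⟩
    refine ⟨ρ t v, ?_⟩
    show ρ z (ρ t v) - ρ t v = ρ t (ρ z v - v)
    rw [map_sub, ← rho_mul, ← rho_mul ρ t z, hzc t ht]
  have hWb : ∀ w ∈ W, ρ b w = w := by
    rintro _ ⟨v, rfl⟩
    have h1 := H.fix_range hz6 hzb v
    rw [d_apply, map_sub, ← rho_mul, hzb, rho_mul] at h1
    rw [← sub_eq_zero, map_sub]
    calc ρ b (ρ z v) - ρ b v - (ρ z v - v) = ρ b (ρ z v) - ρ z v - (ρ b v - v) := by abel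
      _ = 0 := by rw [h1, sub_self]
  refine H.eq_one fun v => fix_of_unipotent h3 ?_
  exact commutator_le_fixer hWT hWb (hgen.symm ▸ hzT) _ ⟨v, rfl⟩

variable {q : ℕ} [Fact q.Prime]

theorem coprime_six (hq : 5 ≤ q) {P : Subgroup S} (hP : IsPGroup q P) :
    (Nat.card P).Coprime 6 := by
  obtain ⟨k, hk⟩ := IsPGroup.iff_card.1 hP
  rw [hk]
  refine Nat.Coprime.pow_left k ((Nat.Prime.coprime_iff_not_dvd Fact.out).2 fun h => ?_)
  have := Nat.le_of_dvd (by norm_num) h
  interval_cases q
  · norm_num at h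
  · exact absurd (Fact.out : Nat.Prime 6) (by norm_num)

/-- A `q`-group fixing a subspace of codimension four is trivial, of order 5 or of order 13. -/
theorem card_cases (H : Function.Injective ρ) (hq : 5 ≤ q) {U : Subgroup S} (hU : IsPGroup q U)
    {K : Submodule (ZMod 3) E} (hK : Module.finrank (ZMod 3) (E ⧸ K) ≤ 4)
    (hfix : ∀ x ∈ U, ∀ v ∈ K, ρ x v = v) :
    Nat.card U = 1 ∨ (q = 5 ∧ Nat.card U = 5) ∨ (q = 13 ∧ Nat.card U = 13) := by
  have h6 := coprime_six hq hU
  have hd := dvd_medium hK (card_dvd_of_fix H (h6.coprime_dvd_right (by norm_num)) hfix)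
  have hc : (Nat.card U).Coprime (6 ^ 15) := h6.pow_right 15
  have h65 : Nat.card U ∣ 65 :=
    Nat.Coprime.dvd_of_dvd_mul_left hc (hd.trans (Dvd.intro (2 ^ 6 * 3 ^ 9) (by norm_num)))
  obtain ⟨k, hk⟩ := IsPGroup.iff_card.1 hU
  rcases Nat.eq_zero_or_pos k with rfl | hkpos
  · left; simpa using hk
  right
  have hqd : q ∣ 5 * 13 := (dvd_pow_self q hkpos.ne').trans (hk ▸ h65)
  have hk1 : k = 1 := by
    by_contra hne
    have h2 : q ^ 2 ∣ 65 := (pow_dvd_pow q (by omega : 2 ≤ k)).trans (hk ▸ h65)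
    rcases (Fact.out : q.Prime).dvd_mul.1 hqd with h | h <;>
      have := (Nat.prime_dvd_prime_iff_eq Fact.out (by norm_num)).1 h <;>
      subst this <;> norm_num at h2
  rw [hk1, pow_one] at hk
  rcases (Fact.out : q.Prime).dvd_mul.1 hqd with h | h
  · exact Or.inl ⟨(Nat.prime_dvd_prime_iff_eq Fact.out (by norm_num)).1 h,
      hk.trans ((Nat.prime_dvd_prime_iff_eq Fact.out (by norm_num)).1 h)⟩
  · exact Or.inr ⟨(Nat.prime_dvd_prime_iff_eq Fact.out (by norm_num)).1 h,
      hk.trans ((Nat.prime_dvd_prime_iff_eq Fact.out (by norm_num)).1 h)⟩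

/-- Commutators with `b` have order 1, 5 or 13. -/
theorem Hyp.twist_cases (H : Hyp ρ b) (hq : 5 ≤ q) {P : Subgroup S} (hP : IsPGroup q P)
    (hPb : ∀ x ∈ P, b * x * b⁻¹ ∈ P) {f : S} (hf : f ∈ P)
    (hne : b * f * b⁻¹ ≠ f) :
    (q = 5 ∧ orderOf (f⁻¹ * (b * f * b⁻¹)) = 5) ∨
      (q = 13 ∧ orderOf (f⁻¹ * (b * f * b⁻¹)) = 13) := by
  obtain ⟨K, hK, -, hKg⟩ := H.common_fix f
  have hg : f⁻¹ * (b * f * b⁻¹) ∈ P := mul_mem (inv_mem hf) (hPb f hf)
  rw [← Nat.card_zpowers]
  rcases card_cases H.inj hq (hP.to_le (zpowers_le.2 hg)) hK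
      (fun x hx => (show zpowers _ ≤ fixer ρ (K : Set E) from zpowers_le.2 hKg) hx) with h | h | h
  · rw [Nat.card_zpowers, orderOf_eq_one_iff] at h
    exact absurd (inv_mul_eq_one.1 h).symm hne
  · exact Or.inl h
  · exact Or.inr h

theorem five_key (c : ZMod 5) (h : c * (c * c) = 1) : c = 1 := by revert c; decide

/-- `b` centralises the 5-groups it normalises. -/
theorem five (H : Hyp ρ b) {P : Subgroup S} (hP : IsPGroup 5 P)
    (hPb : ∀ x ∈ P, b * x * b⁻¹ ∈ P) : ∀ x ∈ P, b * x * b⁻¹ = x := by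
  haveI : Fact (Nat.Prime 5) := ⟨by norm_num⟩
  have hA : zpowers b ≤ normalizer (P : Set S) := by
    refine zpowers_le.2 (mem_normalizer_iff.2 fun x => ⟨hPb x, fun hx => ?_⟩)
    rw [← conj_cube H.cube x]
    exact hPb _ (hPb _ hx)
  have hcop : (Nat.card (zpowers b)).Coprime (Nat.card P) := by
    rw [Nat.card_zpowers]
    exact Nat.Coprime.coprime_dvd_left (orderOf_dvd_of_pow_eq_one H.cube)
      ((coprime_six (le_refl 5) hP).symm.coprime_dvd_left (by norm_num))
  have hsolv : Group.IsSolvable P := by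
    haveI := hP.isNilpotent
    infer_instance
  have hgen := CoprimeAct.commutator_commutator hA hcop (Or.inr hsolv)
  set T := ⁅P, zpowers b⁆ with hTdef
  have hTP : T ≤ P := le_normalizer_iff_commutator_le_left.1 hA
  have hTb : ∀ x ∈ T, b * x * b⁻¹ ∈ T := fun x hx =>
    (mem_normalizer_iff.1 (normalizer_commutator_ge_right P (zpowers b) (mem_zpowers b)) x).1 hx
  have hTbot : T = ⊥ := by
    by_contra hne
    haveI : Nontrivial T := (Subgroup.nontrivial_iff_ne_bot T).2 hne
    have hT : IsPGroup 5 T := hP.to_le hTP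
    haveI := hT.center_nontrivial
    obtain ⟨zz, hzz⟩ := exists_ne (1 : center T)
    set z : S := ((zz : T) : S) with hz
    have hzT : z ∈ T := (zz : T).2
    have hzc : ∀ t ∈ T, z * t = t * z := fun t ht =>
      (congrArg Subtype.val (mem_center_iff.1 zz.2 ⟨t, ht⟩)).symm
    have hz1 : z ≠ 1 := fun h => hzz (Subtype.ext (Subtype.ext h))
    have hzb : b * z * b⁻¹ ≠ z := fun h => hz1 (central_fixed_trivial H hgen hzT hzc
      (Nat.Coprime.coprime_dvd_left (orderOf_dvd_natCard T hzT) (coprime_six le_rfl hT))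
      (by conv_lhs => rw [← h, inv_mul_cancel_right]))
    set g := z⁻¹ * (b * z * b⁻¹) with hg
    set g1 := b * g * b⁻¹ with hg1
    have ho : orderOf g = 5 := by
      rcases H.twist_cases le_rfl hT hTb hzT hzb with h | h
      · exact h.2
      · norm_num at h
    obtain ⟨K, hK, hKb, hKg⟩ := H.common_fix z
    have hgT : g ∈ T := mul_mem (inv_mem hzT) (hTb z hzT)
    have hU : zpowers g ⊔ zpowers g1 ≤ T :=
      sup_le (zpowers_le.2 hgT) (zpowers_le.2 (hTb g hgT))
    have hUK : zpowers g ⊔ zpowers g1 ≤ fixer ρ (K : Set E) := by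
      refine sup_le (zpowers_le.2 hKg) (zpowers_le.2 fun v hv => ?_)
      have hbi : ρ b⁻¹ v = v := by
        conv_lhs => rw [← hKb v hv]
        exact rho_inv_apply ρ b v
      rw [rho_mul, rho_mul, hbi, hKg v hv, hKb v hv]
    have hc : Nat.card ↥(zpowers g ⊔ zpowers g1) = 5 := by
      rcases card_cases H.inj le_rfl (hT.to_le hU) hK (fun x hx => hUK hx) with h | h | h
      · have h1 : Nat.card (zpowers g) ∣ Nat.card ↥(zpowers g ⊔ zpowers g1) :=
          card_dvd_of_le le_sup_left
        rw [Nat.card_zpowers, ho, h] at h1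
        norm_num at h1
      · exact h.2
      · norm_num at h
    have he : zpowers g = zpowers g ⊔ zpowers g1 :=
      Subgroup.eq_of_le_of_card_ge le_sup_left (by rw [hc, Nat.card_zpowers, ho])
    have hmem : g1 ∈ zpowers g := he ▸ mem_sup_right (mem_zpowers g1)
    obtain ⟨k, hk⟩ := (mem_powers_iff_mem_zpowers.2 hmem : g1 ∈ Submonoid.powers g)
    simp only at hk
    have hcp : ∀ n : ℕ, b * g ^ n * b⁻¹ = g ^ (k * n) := fun n => by
      rw [← conj_pow, ← hg1, ← hk, ← pow_mul]
    have h3 : g ^ (k * (k * k)) = g ^ 1 := by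
      rw [pow_one]
      conv_rhs => rw [← conj_cube H.cube g, ← hg1, ← hk, hcp, hcp]
    rw [pow_eq_pow_iff_modEq, ho, ← ZMod.natCast_eq_natCast_iff] at h3
    have hk1 : g ^ k = g ^ 1 := by
      rw [pow_eq_pow_iff_modEq, ho, ← ZMod.natCast_eq_natCast_iff, Nat.cast_one]
      exact five_key _ (by simpa using h3)
    rw [hk, pow_one] at hk1
    have ht := telescope H.cube z
    rw [← hg, ← hg1, hk1, ← hg1, hk1] at ht
    have h35 : orderOf g ∣ 3 := orderOf_dvd_of_pow_eq_one (by rw [pow_three', ht])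
    rw [ho] at h35
    norm_num at h35
  intro x hx
  have h0 := commutator_mem_commutator hx (mem_zpowers b)
  rw [← hTdef, hTbot, mem_bot, commutatorElement_eq_one_iff_mul_comm] at h0
  rw [← h0, mul_inv_cancel_right]

/-- In a normal subgroup of order prime to six, the centraliser of `g` centralises `b g b⁻¹`. -/
theorem four_centralizer (H : Hyp ρ b) (F : Four b g) (hq : 5 ≤ q) {P : Subgroup S} [P.Normal]
    (hP : IsPGroup q P) : ∀ v ∈ P, v * g = g * v → v * (b * g * b⁻¹) = b * g * b⁻¹ * v := by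
  classical
  haveI : Module.Finite (ZMod 3) E := Module.Finite.of_finite
  have h6 := coprime_six hq hP
  have hconjP : ∀ (s x : S), x ∈ P → s * x * s⁻¹ ∈ P := fun s x hx =>
    Subgroup.Normal.conj_mem inferInstance x hx s
  have o6 : ∀ {x : S}, x ∈ P → (orderOf x).Coprime 6 := fun hx =>
    h6.coprime_dvd_left (orderOf_dvd_natCard P hx)
  have odd_one : ∀ {x : S}, x ∈ P → x * x = 1 → x = 1 := by
    intro x hx h
    refine orderOf_eq_one_iff.1 (Nat.eq_one_of_dvd_coprimes ((o6 hx).coprime_dvd_right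
      (by norm_num : 2 ∣ 6)) dvd_rfl (orderOf_dvd_of_pow_eq_one (by rw [pow_two, h])))
  obtain ⟨ea, eb, ec, L⟩ := H.lines F
  obtain ⟨⟨ga, gb, gc⟩, ha, hb, hc⟩ := L.act_g
  -- inverted elements
  have hinv : ∀ v ∈ P, v * g = g * v →
      (b * g * b⁻¹) * v * (b * g * b⁻¹) = v⁻¹ → v = 1 := by
    intro v hv hvg hvi
    set h := b * g * b⁻¹ with hh
    have hs : h * h = 1 := F.sq1
    have hvi' : h * v = v⁻¹ * h := by rw [← hvi, mul_assoc (h * v) h h, hs, mul_one]
    let Vp : Submodule (ZMod 3) E := LinearMap.ker (ρ g - 1)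
    let Vm : Submodule (ZMod 3) E := LinearMap.ker (ρ g + 1)
    have mp : ∀ {w}, w ∈ Vp ↔ ρ g w = w := fun {w} => mem_fixSp
    have mm : ∀ {w}, w ∈ Vm ↔ ρ g w = -w := fun {w} => by
      rw [LinearMap.mem_ker, eq_neg_iff_add_eq_zero]; rfl
    have hsplit : ∀ w, w ∈ Vp ⊔ Vm := fun w => by
      have e : w = -(w + ρ g w) + -(w - ρ g w) := by
        calc w = w + -(w + w + w) := by rw [three, neg_zero, add_zero]
          _ = _ := by abel
      rw [e]
      refine Submodule.add_mem_sup (Vp.neg_mem (mp.2 ?_)) (Vm.neg_mem (mm.2 ?_))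
      · rw [map_add, ← rho_mul, F.sq, rho_one, add_comm]
      · rw [map_sub, ← rho_mul, F.sq, rho_one]; abel
    have hVm2 : Module.finrank (ZMod 3) Vm ≤ 2 := by
      have hle : Vm ≤ Submodule.span (ZMod 3) (({eb, ec} : Finset E) : Set E) := by
        intro w hw
        obtain ⟨v0, h0, va, hva, vb, hvb, vc, hvc, rfl⟩ := F.decomp (ρ := ρ) w
        obtain ⟨i, rfl⟩ := L.spa va hva
        obtain ⟨j, rfl⟩ := L.spb vb hvb
        obtain ⟨k, rfl⟩ := L.spc vc hvc
        have g0 := (mem_piece.1 h0).1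
        rw [one_smul] at g0
        have hw' := mm.1 hw
        simp only [map_add, map_smul, ga, gb, gc, g0, smul_neg] at hw'
        have e : v0 + i • ea = 0 := eq_zero_of_two (by
          calc v0 + i • ea + (v0 + i • ea) = (v0 + i • ea + -(j • eb) + -(k • ec)) +
                (v0 + i • ea + j • eb + k • ec) := by abel
            _ = 0 := by rw [hw', neg_add_cancel])
        rw [e, zero_add, Finset.coe_insert, Finset.coe_singleton]
        exact Submodule.mem_span_pair.2 ⟨j, k, rfl⟩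
      exact (Submodule.finrank_mono hle).trans
        ((finrank_span_finset_le_card _).trans Finset.card_le_two)
    have hvVp : ∀ w ∈ Vp, ρ v w ∈ Vp := fun w hw =>
      mp.2 (by rw [← rho_mul, ← hvg, rho_mul, mp.1 hw])
    -- `v` is trivial on the minus space
    have hvVm : ∀ w ∈ Vm, ρ v w = w := by
      intro w hw
      let U : Subgroup S := zpowers v
      have hUm : ∀ y ∈ U, ∀ u ∈ Vm, ρ y u ∈ Vm := by
        intro y hy u hu
        have hyg : y * g = g * y := by
          obtain ⟨n, rfl⟩ := mem_zpowers_iff.1 hy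
          exact ((show Commute v g from hvg).zpow_left n).eq
        exact mm.2 (by rw [← rho_mul, ← hyg, rho_mul, mm.1 hu, map_neg])
      let φ : U →* Module.End (ZMod 3) Vm :=
        { toFun := fun y => (ρ (y : S)).restrict (hUm y y.2)
          map_one' := LinearMap.ext fun u => Subtype.ext (by simp)
          map_mul' := fun y z => LinearMap.ext fun u => Subtype.ext (rho_mul ρ y z u) }
      let v' : U := ⟨v, mem_zpowers v⟩
      have h1 : orderOf (φ.toHomUnits v') ∣ orderOf v :=
        (orderOf_map_dvd _ v').trans (Subgroup.orderOf_coe v' ▸ dvd_rfl)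
      have h2 : orderOf (φ.toHomUnits v') ∣ 48 := dvd_small hVm2
        (card_units_end Vm ▸ orderOf_dvd_natCard _)
      have h3 : (orderOf v).Coprime 48 :=
        Nat.Coprime.coprime_dvd_right (show 48 ∣ 6 ^ 4 by norm_num) ((o6 hv).pow_right 4)
      have h4 := orderOf_eq_one_iff.1 (Nat.eq_one_of_dvd_coprimes h3 h1 h2)
      have h5 : φ v' = 1 := congrArg Units.val h4
      exact congrArg Subtype.val (LinearMap.congr_fun h5 ⟨w, hw⟩)
    -- `v * v` is trivial on a large part of the plus space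
    let L' := L0 ρ b g
    let W : Submodule (ZMod 3) E := L' ⊓ L'.comap (ρ v)
    have hW : ∀ w ∈ W, ρ (v * v) w = w := by
      rintro w ⟨hw, hw'⟩
      have w1 := (mem_piece.1 hw).2
      have w2 := (mem_piece.1 (show ρ v w ∈ L' from hw')).2
      rw [one_smul] at w1 w2
      have h1 : ρ v w = ρ v⁻¹ w := by
        rw [← w2, ← rho_mul, ← hh, hvi', rho_mul, w1]
      rw [rho_mul, h1, rho_apply_inv]
    have hKfix : ∀ x ∈ zpowers (v * v), ∀ w ∈ W ⊔ Vm, ρ x w = w := by
      intro x hx
      refine (show zpowers (v * v) ≤ fixer ρ ((W ⊔ Vm : Submodule (ZMod 3) E) : Set E) from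
        zpowers_le.2 fun w hw => ?_) hx
      obtain ⟨w0, h0, w1, h1, rfl⟩ := Submodule.mem_sup.1 hw
      rw [map_add, hW w0 h0, rho_mul, hvVm w1 h1, hvVm w1 h1]
    have hWp : W ≤ Vp := fun w hw => mp.2 (by simpa using (mem_piece.1 hw.1).1)
    have hdim : Module.finrank (ZMod 3) (E ⧸ (W ⊔ Vm)) ≤ 2 := by
      have e1 := (W ⊔ Vm).finrank_quotient_add_finrank
      have e2 := Submodule.finrank_sup_add_finrank_inf_eq W Vm
      have e3 : W ⊓ Vm = ⊥ := by
        rw [Submodule.eq_bot_iff]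
        rintro w ⟨hw, hw'⟩
        exact eq_zero_of_eq_neg ((mp.1 (hWp hw)).symm.trans (mm.1 hw'))
      rw [e3, finrank_bot, add_zero] at e2
      have e4 := Submodule.finrank_sup_add_finrank_inf_eq Vp Vm
      have e5 : Vp ⊔ Vm = ⊤ := Submodule.eq_top_iff'.2 hsplit
      rw [e5, finrank_top] at e4
      have e6 := Submodule.finrank_sup_add_finrank_inf_eq L' (L'.comap (ρ v))
      have eqv : L'.comap (ρ v) = L'.map (ρ v⁻¹) := by
        ext w
        rw [Submodule.mem_comap, Submodule.mem_map]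
        refine ⟨fun hw => ⟨_, hw, rho_inv_apply ρ v w⟩, ?_⟩
        rintro ⟨u, hu, rfl⟩
        rwa [rho_apply_inv]
      have e7 : Module.finrank (ZMod 3) (L'.comap (ρ v)) = Module.finrank (ZMod 3) L' := by
        rw [eqv]
        exact (LinearEquiv.finrank_eq (Submodule.equivMapOfInjective (ρ v⁻¹)
          (fun a c e => by simpa [rho_apply_inv] using congrArg (ρ v) e) L')).symm
      have e8 : L' ⊔ L'.comap (ρ v) ≤ Vp := by
        refine sup_le (fun w hw => mp.2 (by simpa using (mem_piece.1 hw).1)) fun w hw => ?_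
        have h1 : ρ v w ∈ Vp := mp.2 (by simpa using (mem_piece.1 (Submodule.mem_comap.1 hw)).1)
        have h2 := mp.1 h1
        rw [← rho_mul, ← hvg, rho_mul] at h2
        have h3 := congrArg (ρ v⁻¹) h2
        rw [rho_inv_apply, rho_inv_apply] at h3
        exact mp.2 h3
      have e9 := Submodule.finrank_mono e8
      have eW : Module.finrank (ZMod 3) W =
          Module.finrank (ZMod 3) ↥(L' ⊓ L'.comap (ρ v)) := rfl
      have e10 : Module.finrank (ZMod 3) Vp ≤ Module.finrank (ZMod 3) L' + 1 := by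
        have hle : Vp ≤ L' ⊔ Submodule.span (ZMod 3) {ea} := by
          intro w hw
          obtain ⟨v0, h0, va, hva, vb, hvb, vc, hvc, rfl⟩ := F.decomp (ρ := ρ) w
          obtain ⟨i, rfl⟩ := L.spa va hva
          obtain ⟨j, rfl⟩ := L.spb vb hvb
          obtain ⟨k, rfl⟩ := L.spc vc hvc
          have g0 := (mem_piece.1 h0).1
          rw [one_smul] at g0
          have hw' := mp.1 hw
          simp only [map_add, map_smul, ga, gb, gc, g0, smul_neg] at hw'
          have e : j • eb + k • ec = 0 := eq_zero_of_two (by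
            calc j • eb + k • ec + (j • eb + k • ec) = (v0 + i • ea + j • eb + k • ec) -
                  (v0 + i • ea + -(j • eb) + -(k • ec)) := by abel
              _ = 0 := by rw [hw', sub_self])
          rw [add_assoc (v0 + i • ea), e, add_zero]
          exact Submodule.add_mem_sup h0 (Submodule.smul_mem _ i (Submodule.mem_span_singleton_self ea))
        have h1 := Submodule.finrank_mono hle
        have h2 := Submodule.finrank_add_le_finrank_add_finrank L' (Submodule.span (ZMod 3) {ea})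
        have h3 := finrank_span_singleton (K := ZMod 3) L.ne.1
        omega
      show Module.finrank (ZMod 3) (E ⧸ (W ⊔ Vm)) ≤ 2
      omega
    have hcard := dvd_small hdim (card_dvd_of_fix H.inj ((h6.coprime_dvd_left
      (card_dvd_of_le (zpowers_le.2 (mul_mem hv hv)))).coprime_dvd_right (by norm_num)) hKfix)
    rw [Nat.card_zpowers] at hcard
    exact odd_one hv (orderOf_eq_one_iff.1 (Nat.eq_one_of_dvd_coprimes
      (Nat.Coprime.coprime_dvd_right (show 48 ∣ 6 ^ 4 by norm_num)
        ((o6 (mul_mem hv hv)).pow_right 4)) dvd_rfl hcard))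
  intro v hv hvg
  set h := b * g * b⁻¹ with hh
  have hi : h⁻¹ = h := inv_eq_of_mul_eq_one_left F.sq1
  set i := v * (h * v⁻¹ * h) with hidef
  have hiP : i ∈ P := by
    refine mul_mem hv ?_
    have := hconjP h v⁻¹ (inv_mem hv)
    rwa [hi] at this
  have hig : i * g = g * i := by
    have c1 : Commute v g := hvg
    have c2 : Commute h g := F.comm.symm
    exact (c1.mul_left ((c2.mul_left c1.inv_left).mul_left c2)).eq
  have hii : h * i * h = i⁻¹ := by
    rw [hidef]
    simp only [mul_inv_rev, inv_inv, hi]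
    calc h * (v * (h * v⁻¹ * h)) * h = h * v * h * v⁻¹ * (h * h) := by group
      _ = h * v * h * v⁻¹ := by rw [F.sq1, mul_one]
      _ = h * (v * h) * v⁻¹ := by group
  have h1 := hinv i hiP hig hii
  rw [hidef] at h1
  calc v * h = v * (h * v⁻¹ * h) * (h⁻¹ * v) := by group
    _ = h * v := by rw [h1, one_mul, hi]

/-- A normal subgroup of order prime to six is centralised by the four group, hence by `b`. -/
theorem normal_fixed (H : Hyp ρ b) (F : Four b g) (hq : 5 ≤ q) {P : Subgroup S} [P.Normal]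
    (hP : IsPGroup q P) : ∀ x ∈ P, b * x * b⁻¹ = x := by
  classical
  have h6 := coprime_six hq hP
  obtain ⟨ea, eb, ec, L⟩ := H.lines F
  have Fc : ∀ {g : S}, Four b g → Four b (b * g * b⁻¹) := fun {g} F => by
    refine four_mk H.cube F.sq1 ?_ fun e => F.ne ?_
    · rw [conj_cube H.cube g]
      calc b * g * b⁻¹ * (b * (b * g * b⁻¹) * b⁻¹) * g
          = g⁻¹ * (g * (b * g * b⁻¹) * (b * (b * g * b⁻¹) * b⁻¹)) * g := by group
        _ = 1 := by rw [F.prod, mul_one, inv_mul_cancel]
    · calc g = b⁻¹ * (b * g * b⁻¹) * b := by group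
        _ = 1 := by rw [e, mul_one, inv_mul_cancel]
  set h := b * g * b⁻¹ with hh
  have hA : IsMulCommutative (fourGroup F) := (card_fourGroup H F).2.1
  have hsq : ∀ x ∈ fourGroup F, x ^ 2 = 1 := (card_fourGroup H F).2.2
  have hnc : ¬ IsCyclic (fourGroup F) := by
    intro hcyc
    obtain ⟨x, hx⟩ := hcyc.exists_generator
    have h4 : Nat.card (fourGroup F) ≤ 2 := by
      rw [← orderOf_eq_card_of_forall_mem_zpowers hx]
      exact Nat.le_of_dvd two_pos
        (orderOf_dvd_of_pow_eq_one (Subtype.ext (by simpa using hsq x x.2)))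
    rw [(card_fourGroup H F).1] at h4
    norm_num at h4
  have hcop : (Nat.card (fourGroup F)).Coprime (Nat.card P) := by
    rw [(card_fourGroup H F).1]
    exact (h6.pow_right 2).symm.coprime_dvd_left (by norm_num)
  have hgen := CfsgLib.CoprimeAct.generated_by_centralizers hnc
    (show fourGroup F ≤ normalizer (P : Set S) by rw [Subgroup.normalizer_eq_top]; exact le_top) hcop
  have hsub : ∀ x ∈ fourGroup F, x ≠ 1 → P ⊓ centralizer {x} ≤ centralizer {g, h} := by
    intro x hx hx1 v ⟨hv, hvx⟩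
    have hvx' : v * x = x * v := (mem_centralizer_singleton_iff.1 hvx)
    have key : v * g = g * v ∧ v * h = h * v := by
      rcases hx with rfl | rfl | rfl | rfl
      · exact absurd rfl hx1
      · exact ⟨hvx', four_centralizer H F hq hP v hv hvx'⟩
      · have h2 := four_centralizer H (Fc F) hq hP v hv hvx'
        rw [F.g2] at h2
        refine ⟨?_, hvx'⟩
        have e : g = g * (b * g * b⁻¹) * (b * g * b⁻¹) := by rw [mul_assoc, F.sq1, mul_one]
        rw [e]
        exact ((show Commute v _ from h2).mul_right (show Commute v _ from hvx')).eq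
      · have h2 := four_centralizer H (Fc (Fc F)) hq hP v hv (by rw [F.g2]; exact hvx')
        rw [conj_cube H.cube g] at h2
        exact ⟨h2, four_centralizer H F hq hP v hv h2⟩
    rw [mem_centralizer_iff]
    rintro y (rfl | rfl)
    exacts [key.1.symm, key.2.symm]
  have hPc : P ≤ centralizer {g, h} := hgen.ge.trans (iSup₂_le fun x hx => hsub x hx.1 hx.2)
  intro x hx
  have hxg : x * g = g * x := ((mem_centralizer_iff.1 (hPc hx)) g (Or.inl rfl)).symm
  have hxh : x * h = h * x := ((mem_centralizer_iff.1 (hPc hx)) h (Or.inr rfl)).symm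
  obtain ⟨sa, sb, sc, ⟨ta, tb, tc⟩, sa2, sb2, sc2⟩ := L.signs hxg hxh
  have hodd : Odd (orderOf x) := Nat.coprime_two_right.1
    ((h6.coprime_dvd_left (orderOf_dvd_natCard P hx)).coprime_dvd_right (by norm_num))
  have sign_one : ∀ {e : E} {s : ZMod 3}, e ≠ 0 → ρ x e = s • e → (s = 1 ∨ s = -1) → s = 1 := by
    intro e s he hs h2
    rcases h2 with rfl | rfl
    · rfl
    exfalso
    have hp : ∀ n : ℕ, ρ (x ^ n) e = ((-1 : ZMod 3) ^ n) • e := by
      intro n
      induction n with
      | zero => rw [pow_zero, pow_zero, one_smul, rho_one]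
      | succ n ih => rw [pow_succ, pow_succ, rho_mul, hs, map_smul, ih, smul_smul, mul_comm]
    have h1 := hp (orderOf x)
    rw [pow_orderOf_eq_one, rho_one, hodd.neg_one_pow, neg_smul, one_smul] at h1
    exact he (eq_zero_of_eq_neg h1)
  obtain rfl := sign_one L.ne.1 ta sa2
  obtain rfl := sign_one L.ne.2.1 tb sb2
  obtain rfl := sign_one L.ne.2.2 tc sc2
  rw [one_smul] at ta tb tc
  rw [mul_inv_eq_iff_eq_mul]
  refine L.ext H F (fun v hv => ?_) ?_ ?_ ?_
  · rw [rho_mul, rho_mul, L.fix v hv, L.fix _ (piece_invariant hxg hxh hv)]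
  · rw [rho_mul, rho_mul, ta, L.ba, tb]
  · rw [rho_mul, rho_mul, tb, L.bb, tc]
  · rw [rho_mul, rho_mul, tc, L.bc, ta]

end CfsgLib.CubicBlock
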