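import Cfsg.Agent.CubicBlock.TwoGroup
import Cfsg.Agent.CubicBlock.Odd
import Cfsg.Agent.Solvable.Fitting
import Cfsg.Agent.Solvable.CoprimeIndex

/-!
`⁅O_{3'}(S), B⁆` for a solvable group with a cubic block element.
-/

set_option autoImplicit false
set_option linter.unusedSectionVars false
set_option linter.style.haveILetI false

namespace CfsgLib.CubicBlock

open Subgroup CfsgLib.Solvable
open scoped commutatorElement

variable {S : Type*} [Group S] [Finite S] {E : Type*} [AddCommGroup E] [Module (ZMod 3) E]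
  [Finite E] {ρ : Representation (ZMod 3) S E} {b g : S}

/-- A `q`-element centralising all the cores lies in `O_q`, for solvable `S`. -/
theorem mem_pCore_of_centralizes [Group.IsSolvable S] {q : ℕ} [Fact q.Prime] {x : S}
    (hq : ∃ k : ℕ, x ^ q ^ k = 1)
    (hx : ∀ r : ℕ, r.Prime → ∀ y ∈ Cfsg.pCore r S, x * y = y * x) : x ∈ Cfsg.pCore q S := by
  set F := Cfsg.fittingSubgroup S with hF
  have hxc : x ∈ centralizer (F : Set S) := by
    have hle : F ≤ centralizer {x} := by
      rw [hF, fittingSubgroup_eq_iSup_pCore]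
      exact iSup_le fun r y hy => mem_centralizer_singleton_iff.2 (hx r r.2 y hy).symm
    exact mem_centralizer_iff.2 fun y hy => mem_centralizer_singleton_iff.1 (hle hy)
  set A := F ⊓ centralizer (F : Set S)
  have hA : A.Normal := inferInstance
  have hcomm : ∀ u ∈ A, ∀ v ∈ A, Commute u v := fun u hu v hv =>
    ((mem_centralizer_iff.1 hu.2) v hv.1).symm
  let Aq : Subgroup S :=
    { carrier := {y | y ∈ A ∧ ∃ k : ℕ, y ^ q ^ k = 1}
      one_mem' := ⟨one_mem A, 0, by simp⟩
      mul_mem' := by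
        rintro u v ⟨hu, k, hk⟩ ⟨hv, l, hl⟩
        refine ⟨mul_mem hu hv, k + l, ?_⟩
        rw [(hcomm u hu v hv).mul_pow, pow_add, pow_mul, hk, one_pow, one_mul, mul_comm, pow_mul,
          hl, one_pow]
      inv_mem' := by
        rintro u ⟨hu, k, hk⟩
        exact ⟨inv_mem hu, k, by rw [inv_pow, hk, inv_one]⟩ }
  have hn : Aq.Normal := ⟨by
    rintro y ⟨hy, k, hk⟩ s
    exact ⟨hA.conj_mem y hy s, k, by rw [conj_pow, hk, mul_one, mul_inv_cancel]⟩⟩
  have hp : IsPGroup q Aq := by
    rintro ⟨y, hy, k, hk⟩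
    exact ⟨k, Subtype.ext hk⟩
  exact le_pCore q hn hp (show x ∈ Aq from
    ⟨⟨Fitting.centralizer_fittingSubgroup_le_of_solvable hxc, hxc⟩, hq⟩)

theorem pow_two_mod {i j : ℕ} (hi : i < 11) (hj : j < 11) (h : 2 ^ i % 13 = 2 ^ j % 13) :
    i = j := by
  interval_cases i <;> interval_cases j <;> simp_all

theorem conj_inv_mem (H : Hyp ρ b) {K : Subgroup S} (hK : ∀ x ∈ K, b * x * b⁻¹ ∈ K) :
    ∀ x ∈ K, b⁻¹ * x * b ∈ K := fun x hx => by
  have h := conj_cube H.cube (b⁻¹ * x * b)
  rw [show b * (b⁻¹ * x * b) * b⁻¹ = x by group] at h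
  rw [← h]
  exact hK _ (hK _ hx)

/-- A 13-group normalised by `b` is centralised by it. -/
theorem thirteen [Group.IsSolvable S] (H : Hyp ρ b) (hO3 : Cfsg.pCore 3 S = ⊥)
    (hfix : ∀ r : ℕ, r.Prime → 5 ≤ r → ∀ x ∈ Cfsg.pCore r S, b * x * b⁻¹ = x)
    {P : Subgroup S} (hP : IsPGroup 13 P) (hPb : ∀ x ∈ P, b * x * b⁻¹ ∈ P) :
    ∀ x ∈ P, b * x * b⁻¹ = x := by
  classical
  haveI : Fact (Nat.Prime 13) := ⟨by norm_num⟩
  haveI : Fact (Nat.Prime 2) := ⟨Nat.prime_two⟩
  intro f hf
  by_contra hne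
  have ho : orderOf (f⁻¹ * (b * f * b⁻¹)) = 13 := by
    rcases H.twist_cases (q := 13) (by norm_num) hP hPb hf hne with h | h
    · norm_num at h
    · exact h.2
  set g := f⁻¹ * (b * f * b⁻¹) with hg
  set c := f⁻¹ * b * f with hc
  set N := Cfsg.pCore 2 S with hN
  have hN2 : IsPGroup 2 N := isPGroup_pCore 2
  have hNn : ∀ s : S, ∀ x ∈ N, s * x * s⁻¹ ∈ N := fun s x hx =>
    Subgroup.Normal.conj_mem (pCore_normal 2) x hx s
  have Hc : Hyp ρ c := by
    have := H.conj f⁻¹
    rwa [inv_inv] at this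
  obtain ⟨hsb, -⟩ := shape_commutator H hN2 fun t ht => hNn b t ht
  obtain ⟨hsc, -⟩ := shape_commutator Hc hN2 fun t ht => hNn c t ht
  set Kb := ⁅N, zpowers b⁆ with hKb
  set Kc := ⁅N, zpowers c⁆ with hKc
  set K := Kb ⊔ Kc with hK
  have hnorm : ∀ A : Subgroup S, A ≤ normalizer (N : Set S) := fun A => by
    rw [Subgroup.normalizer_eq_top]; exact le_top
  have hbN : Kb ≤ N := le_normalizer_iff_commutator_le_left.1 (hnorm _)
  have hcN : Kc ≤ N := le_normalizer_iff_commutator_le_left.1 (hnorm _)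
  have hKN : K ≤ N := sup_le hbN hcN
  have hcard : Nat.card K ≤ 1024 := by
    have h := card_sup_dvd (A := Kc) (K := Kb) (hcN.trans (normalizer_commutator_ge_left _ _))
    rw [sup_comm] at h
    refine (Nat.le_of_dvd (Nat.mul_pos Nat.card_pos Nat.card_pos) h).trans ?_
    calc Nat.card Kc * Nat.card Kb ≤ 32 * 32 :=
          Nat.mul_le_mul (hsc.card_le Hc) (hsb.card_le H)
      _ = 1024 := by norm_num
  -- the twist is trivial on `N` modulo `K`
  have hb' : ∀ n ∈ N, ∀ s ∈ zpowers b, s * n * s⁻¹ * n⁻¹ ∈ K := fun n hn s hs => by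
    refine mem_sup_left ?_
    have h := inv_mem (commutator_mem_commutator hn hs)
    rwa [commutatorElement_def, show (n * s * n⁻¹ * s⁻¹)⁻¹ = s * n * s⁻¹ * n⁻¹ by group] at h
  have hc' : ∀ n ∈ N, ∀ s ∈ zpowers c, s * n * s⁻¹ * n⁻¹ ∈ K := fun n hn s hs => by
    refine mem_sup_right ?_
    have h := inv_mem (commutator_mem_commutator hn hs)
    rwa [commutatorElement_def, show (n * s * n⁻¹ * s⁻¹)⁻¹ = s * n * s⁻¹ * n⁻¹ by group] at h
  have ge : g = c * b⁻¹ := by rw [hg, hc]; group
  have hgN : ∀ n ∈ N, g * n * g⁻¹ * n⁻¹ ∈ K ∧ g⁻¹ * n * g * n⁻¹ ∈ K := by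
    intro n hn
    constructor
    · have h1 := hb' n hn b⁻¹ (inv_mem (mem_zpowers b))
      have h2 := hc' (b⁻¹ * n * b⁻¹⁻¹) (hNn _ n hn) c (mem_zpowers c)
      have e : g * n * g⁻¹ * n⁻¹ = (c * (b⁻¹ * n * b⁻¹⁻¹) * c⁻¹ * (b⁻¹ * n * b⁻¹⁻¹)⁻¹) *
          (b⁻¹ * n * b⁻¹⁻¹ * n⁻¹) := by rw [ge]; group
      rw [e]; exact mul_mem h2 h1
    · have h1 := hc' n hn c⁻¹ (inv_mem (mem_zpowers c))
      have h2 := hb' (c⁻¹ * n * c⁻¹⁻¹) (hNn _ n hn) b (mem_zpowers b)
      have e : g⁻¹ * n * g * n⁻¹ = (b * (c⁻¹ * n * c⁻¹⁻¹) * b⁻¹ * (c⁻¹ * n * c⁻¹⁻¹)⁻¹) *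
          (c⁻¹ * n * c⁻¹⁻¹ * n⁻¹) := by rw [ge]; group
      rw [e]; exact mul_mem h2 h1
  have hgnorm : zpowers g ≤ normalizer (K : Set S) := by
    refine zpowers_le.2 (mem_normalizer_iff.2 fun x => ⟨fun hx => ?_, fun hx => ?_⟩)
    · rw [show g * x * g⁻¹ = (g * x * g⁻¹ * x⁻¹) * x by group]
      exact mul_mem (hgN x (hKN hx)).1 hx
    · have h := (hgN _ (hKN hx)).2
      rw [show x = (g⁻¹ * (g * x * g⁻¹) * g * (g * x * g⁻¹)⁻¹) * (g * x * g⁻¹) by group]
      exact mul_mem h hx
  -- hence centralises `K`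
  have hgK : ∀ x ∈ K, g * x = x * g := by
    letI : MulAction (zpowers g) K :=
      { smul := fun a k => ⟨(a : S) * k * (a : S)⁻¹, (mem_normalizer_iff.1 (hgnorm a.2) k).1 k.2⟩
        one_smul := fun k => Subtype.ext (show (1 : S) * k * (1 : S)⁻¹ = k by simp)
        mul_smul := fun a a' k => Subtype.ext
          (show ((a * a' : zpowers g) : S) * k * ((a * a' : zpowers g) : S)⁻¹ =
            (a : S) * ((a' : S) * k * (a' : S)⁻¹) * (a : S)⁻¹ by simp [mul_assoc]) }
    have hp : IsPGroup 13 (zpowers g) :=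
      IsPGroup.of_card (n := 1) (by rw [Nat.card_zpowers, ho, pow_one])
    have hmod := hp.card_modEq_card_fixedPoints K
    let C := K ⊓ centralizer {g}
    have hfp : Nat.card (MulAction.fixedPoints (zpowers g) K) = Nat.card C := by
      refine Nat.card_congr
        { toFun := fun k => ⟨(k.1 : S), k.1.2, mem_centralizer_singleton_iff.2 ?_⟩
          invFun := fun x => ⟨⟨(x : S), x.2.1⟩, fun a => Subtype.ext ?_⟩
          left_inv := fun k => rfl
          right_inv := fun x => rfl }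
      · have h : g * (k.1 : S) * g⁻¹ = k.1 := congrArg Subtype.val (k.2 ⟨g, mem_zpowers g⟩)
        exact (mul_inv_eq_iff_eq_mul.1 h).symm
      · show (a : S) * x * (a : S)⁻¹ = x
        obtain ⟨n, hn⟩ := mem_zpowers_iff.1 a.2
        have hx : Commute (x : S) g := mem_centralizer_singleton_iff.1 x.2.2
        rw [← hn, ← (hx.zpow_right n).eq, mul_inv_cancel_right]
    obtain ⟨i, hi⟩ := IsPGroup.iff_card.1 (hN2.to_le hKN)
    obtain ⟨j, hj⟩ := IsPGroup.iff_card.1 (hN2.to_le ((inf_le_left : C ≤ K).trans hKN))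
    have hle : Nat.card C ≤ Nat.card K := Subgroup.card_le_of_le inf_le_left
    rw [hfp, hi, hj] at hmod
    have hi' : i < 11 := by
      by_contra h
      have h2 : 2 ^ 11 ≤ 2 ^ i := Nat.pow_le_pow_right (by norm_num) (not_lt.1 h)
      rw [← hi] at h2
      omega
    have hj' : j < 11 := by
      by_contra h
      have h2 : 2 ^ 11 ≤ 2 ^ j := Nat.pow_le_pow_right (by norm_num) (not_lt.1 h)
      have hj2 : Nat.card C = 2 ^ j := hj
      omega
    have hij : i = j := pow_two_mod hi' hj' hmod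
    have hCK : C = K := Subgroup.eq_of_le_of_card_ge inf_le_left (by rw [hi, hj, hij])
    intro x hx
    rw [← hCK] at hx
    exact (mem_centralizer_singleton_iff.1 hx.2).symm
  have hgNc : ∀ n ∈ N, g * n = n * g := by
    intro n hn
    set m := g * n * g⁻¹ * n⁻¹ with hm
    have hmK : m ∈ K := (hgN n hn).1
    have hk : ∀ k : ℕ, g ^ k * n * (g ^ k)⁻¹ = m ^ k * n := by
      intro k
      induction k with
      | zero => simp
      | succ k ih =>
        have hcm : Commute g (m ^ k) := (show Commute g m from hgK m hmK).pow_right k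
        calc g ^ (k + 1) * n * (g ^ (k + 1))⁻¹ = g * (g ^ k * n * (g ^ k)⁻¹) * g⁻¹ := by
              rw [pow_succ']; group
          _ = (g * m ^ k) * n * g⁻¹ := by rw [ih]; group
          _ = m ^ k * (g * n * g⁻¹) := by rw [hcm.eq]; group
          _ = m ^ (k + 1) * n := by rw [pow_succ, hm]; group
    have h13 := hk 13
    rw [show g ^ 13 = 1 from ho ▸ pow_orderOf_eq_one g, one_mul, inv_one, mul_one] at h13
    have hm13 : m ^ 13 = 1 := mul_eq_right.1 h13.symm
    obtain ⟨i, hi⟩ := hN2 ⟨m, hKN hmK⟩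
    have h2 : m ^ 2 ^ i = 1 := congrArg Subtype.val hi
    have hm1 : m = 1 := orderOf_eq_one_iff.1 (Nat.eq_one_of_dvd_coprimes
      (Nat.Coprime.pow_left i (by norm_num : Nat.Coprime 2 13))
      (orderOf_dvd_of_pow_eq_one h2) (orderOf_dvd_of_pow_eq_one hm13))
    rw [hm] at hm1
    exact mul_inv_eq_iff_eq_mul.1 (mul_inv_eq_one.1 hm1)
  have hg13 : g ∈ Cfsg.pCore 13 S := by
    refine mem_pCore_of_centralizes ⟨1, by rw [pow_one, ← ho]; exact pow_orderOf_eq_one g⟩
      fun r hr y hy => ?_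
    rcases le_or_gt 5 r with h5 | h5
    · have e1 : b * y * b⁻¹ = y := hfix r hr h5 y hy
      have hyb : Commute y b := by
        show y * b = b * y
        conv_lhs => rw [← e1, inv_mul_cancel_right]
      have hfy : f * y * f⁻¹ ∈ Cfsg.pCore r S :=
        Subgroup.Normal.conj_mem (pCore_normal r) y hy f
      have hyc : Commute y c := by
        have h2 : b * (f * y * f⁻¹) * b⁻¹ = f * y * f⁻¹ := hfix r hr h5 _ hfy
        show y * c = c * y
        rw [hc]
        calc y * (f⁻¹ * b * f) = f⁻¹ * (f * y * f⁻¹) * b * f := by group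
          _ = f⁻¹ * (b * (f * y * f⁻¹) * b⁻¹) * b * f := by rw [h2]
          _ = f⁻¹ * b * f * y := by group
      have : Commute y g := by rw [ge]; exact hyc.mul_right hyb.inv_right
      exact this.eq.symm
    · interval_cases r
      · exact absurd hr (by norm_num)
      · exact absurd hr (by norm_num)
      · exact hgNc y hy
      · rw [hO3, mem_bot] at hy
        rw [hy, mul_one, one_mul]
      · exact absurd hr (by norm_num)
  have hb := hfix 13 (by norm_num) (by norm_num) g hg13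
  have ht := telescope H.cube f
  rw [← hg, hb, hb] at ht
  have h3 : orderOf g ∣ 3 := orderOf_dvd_of_pow_eq_one (by rw [pow_three', ht])
  rw [ho] at h3
  norm_num at h3

/-- Groups of order prime to six normalised by `b` are centralised by it. -/
theorem odd_fixed [Group.IsSolvable S] (H : Hyp ρ b) (hO3 : Cfsg.pCore 3 S = ⊥) (F : Four b g)
    {q : ℕ} [Fact q.Prime] (hq : 5 ≤ q) {P : Subgroup S} (hP : IsPGroup q P)
    (hPb : ∀ x ∈ P, b * x * b⁻¹ ∈ P) : ∀ x ∈ P, b * x * b⁻¹ = x := by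
  intro f hf
  by_contra hne
  rcases H.twist_cases hq hP hPb hf hne with ⟨rfl, -⟩ | ⟨rfl, -⟩
  · exact hne (five H hP hPb f hf)
  · refine hne (thirteen H hO3 (fun r hr h5 => ?_) hP hPb f hf)
    haveI := Fact.mk hr
    exact normal_fixed H F h5 (isPGroup_pCore r)

/-- The commutator of the core with `b` is a four group or big. -/
theorem main [Group.IsSolvable S] (H : Hyp ρ b) (hO3 : Cfsg.pCore 3 S = ⊥) (F : Four b g) :
    (∃ g', ∃ F' : Four b g', ⁅Cfsg.pPrimeCore 3 S, zpowers b⁆ = fourGroup F') ∨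
      Big ρ b ⁅Cfsg.pPrimeCore 3 S, zpowers b⁆ := by
  classical
  haveI : Fact (Nat.Prime 3) := ⟨Nat.prime_three⟩
  haveI : Fact (Nat.Prime 2) := ⟨Nat.prime_two⟩
  set M := Cfsg.pPrimeCore 3 S with hM
  set A := zpowers b with hAdef
  have hMn : M.Normal := pPrimeCore_normal 3
  have hA : A ≤ normalizer (M : Set S) := by rw [Subgroup.normalizer_eq_top]; exact le_top
  have hM3 : (Nat.card M).Coprime 3 := coprime_card_pPrimeCore 3
  have hA3 : Nat.card A ∣ 3 := by
    rw [hAdef, Nat.card_zpowers]; exact orderOf_dvd_of_pow_eq_one H.cube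
  have hcop : (Nat.card A).Coprime (Nat.card M) := hM3.symm.coprime_dvd_left hA3
  have hsol : Group.IsSolvable A ∨ Group.IsSolvable M := Or.inr inferInstance
  have hnormb : ∀ {K : Subgroup S}, A ≤ normalizer (K : Set S) →
      ∀ x ∈ K, b * x * b⁻¹ ∈ K :=
    fun hK x hx => (mem_normalizer_iff.1 (hK (mem_zpowers b)) x).1 hx
  obtain ⟨P2, hP2⟩ := CoprimeAct.exists_invariant_sylow hA hcop hsol 2
  set R := ⁅M, A⁆ with hR
  have hRM : R ≤ M := le_normalizer_iff_commutator_le_left.1 hA
  -- `R` is a 2-group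
  let C := (centralizer {b}).subgroupOf M
  have hidx : (P2 : Subgroup M).index.Coprime C.index := by
    refine Nat.coprime_of_dvd fun p hp h1 h2 => ?_
    haveI := Fact.mk hp
    have hp2 : p ≠ 2 := by rintro rfl; exact P2.not_dvd_index h1
    have hp3 : p ≠ 3 := by
      rintro rfl
      exact Nat.not_coprime_of_dvd_of_dvd (by norm_num) (h1.trans (index_dvd_card _)) dvd_rfl hM3
    have hp5 : 5 ≤ p := by
      have := hp.two_le
      by_contra h
      interval_cases p
      · exact hp2 rfl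
      · exact hp3 rfl
      · norm_num at hp
    obtain ⟨P, hP⟩ := CoprimeAct.exists_invariant_sylow hA hcop hsol p
    have hfixP := odd_fixed H hO3 F hp5 (P.2.map M.subtype) (hnormb hP)
    have hPC : (P : Subgroup M) ≤ C := by
      intro x hx
      have h := hfixP x ⟨x, hx, rfl⟩
      rw [mem_subgroupOf, mem_centralizer_singleton_iff]
      conv_lhs => rw [← h, inv_mul_cancel_right]
    exact P.not_dvd_index (h2.trans (index_dvd_of_le hPC))
  have hRP : R ≤ ⁅(P2 : Subgroup M).map M.subtype, A⁆ := by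
    rw [hR, commutator_le]
    intro m hm s hs
    obtain ⟨x, hx, y, hy, hxy⟩ := CoprimeIndex.exists_mul_eq hidx (⟨m, hm⟩ : M)
    have hyb : (y : S) * b = b * y := mem_centralizer_singleton_iff.1 hy
    have hys : s * (y : S) = y * s := by
      obtain ⟨n, rfl⟩ := mem_zpowers_iff.1 hs
      exact ((show Commute b (y : S) from hyb.symm).zpow_left n).eq
    have e : m = (x : S) * y := congrArg Subtype.val hxy
    have e2 : ⁅m, s⁆ = ⁅(x : S), s⁆ := by
      rw [commutatorElement_def, commutatorElement_def, e]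
      calc (x : S) * y * s * ((x : S) * y)⁻¹ * s⁻¹
          = x * (y * s) * (y : S)⁻¹ * (x : S)⁻¹ * s⁻¹ := by group
        _ = x * (s * y) * (y : S)⁻¹ * (x : S)⁻¹ * s⁻¹ := by rw [hys]
        _ = x * s * (x : S)⁻¹ * s⁻¹ := by group
    rw [e2]
    exact commutator_mem_commutator ⟨x, hx, rfl⟩ hs
  have hR2 : IsPGroup 2 R :=
    (P2.2.map M.subtype).to_le (hRP.trans (le_normalizer_iff_commutator_le_left.1 hP2))
  set N := Cfsg.pCore 2 S with hN
  have hN2 : IsPGroup 2 N := isPGroup_pCore 2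
  have hNM : N ≤ M := le_pPrimeCore 3 (pCore_normal 2) (by
    obtain ⟨k, hk⟩ := IsPGroup.iff_card.1 hN2
    rw [hk]
    exact Nat.Coprime.pow_left k (by norm_num))
  have hRN : R ≤ N := by
    haveI : (Cfsg.pCore 2 M).Characteristic := characteristic_iff_map_le.mpr fun φ =>
      le_pCore 2 (Subgroup.Normal.map inferInstance φ.toMonoidHom φ.surjective)
        ((isPGroup_pCore 2).map φ.toMonoidHom)
    have h1 : R.subgroupOf M ≤ Cfsg.pCore 2 M := by
      refine le_pCore 2 ?_ (hR2.comap_subtype)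
      exact (normal_subgroupOf_iff_le_normalizer hRM).2 (normalizer_commutator_ge_left _ _)
    have h2 : (Cfsg.pCore 2 M).map M.subtype ≤ N :=
      le_pCore 2 inferInstance ((isPGroup_pCore 2).map M.subtype)
    calc R = (R.subgroupOf M).map M.subtype := (map_subgroupOf_eq_of_le hRM).symm
      _ ≤ N := (map_mono h1).trans h2
  have hgenR : ⁅R, A⁆ = R := CoprimeAct.commutator_commutator hA hcop hsol
  have hRb : ∀ x ∈ R, b * x * b⁻¹ ∈ R := hnormb (normalizer_commutator_ge_right M A)
  -- `R` is nontrivial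
  have hne : R ≠ ⊥ := by
    intro h
    have hc : A ≤ centralizer (M : Set S) :=
      le_centralizer_iff.1 (commutator_eq_bot_iff_le_centralizer.1 h)
    have hb3 : b ∈ Cfsg.pCore 3 S := by
      refine mem_pCore_of_centralizes ⟨1, by rw [pow_one, H.cube]⟩ fun r hr y hy => ?_
      by_cases h3 : r = 3
      · subst h3
        rw [hO3, mem_bot] at hy
        rw [hy, mul_one, one_mul]
      · haveI := Fact.mk hr
        obtain ⟨k, hk⟩ := IsPGroup.iff_card.1 (isPGroup_pCore (G := S) r)
        have hle : Cfsg.pCore r S ≤ M := le_pPrimeCore 3 (pCore_normal r) (by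
          rw [hk]; exact ((Nat.coprime_primes hr Nat.prime_three).2 h3).pow_left k)
        exact ((mem_centralizer_iff.1 (hc (mem_zpowers b))) y (hle hy)).symm
    rw [hO3, mem_bot] at hb3
    exact H.ne_one hb3
  rcases shape_of_gen H hR2 hRb hgenR with h | ⟨g', F', h⟩ | hq | hbig
  · exact absurd h hne
  · exact Or.inl ⟨g', F', h⟩
  swap
  · exact Or.inr hbig
  exfalso
  -- exclude the quaternion case
  obtain ⟨a, z, D⟩ := hq
  set Qs := fourGroup F with hQs
  set W := N ⊔ Qs with hW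
  have hQ2 : IsPGroup 2 Qs := IsPGroup.of_card (n := 2) (by rw [(card_fourGroup H F).1]; norm_num)
  have hW2 : IsPGroup 2 W := hN2.to_sup_of_normal_left hQ2
  have hNb : ∀ x ∈ N, b * x * b⁻¹ ∈ N := fun x hx =>
    Subgroup.Normal.conj_mem (pCore_normal 2) x hx b
  have hWb : ∀ x ∈ W, b * x * b⁻¹ ∈ W := by
    have : W ≤ W.comap (MulAut.conj b).toMonoidHom :=
      sup_le (fun x hx => mem_sup_left (hNb x hx))
        (fun x hx => mem_sup_right (F.conj_mem H.cube hx))
    exact fun x hx => this hx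
  obtain ⟨hsh, -⟩ := shape_commutator H hW2 hWb
  set T := ⁅W, zpowers b⁆ with hT
  have hRT : R ≤ T := by
    calc R = ⁅R, A⁆ := hgenR.symm
      _ ≤ T := commutator_mono (hRN.trans le_sup_left) le_rfl
  set g1 := b * g * b⁻¹ with hg1
  have hWbz : zpowers b ≤ normalizer (W : Set S) := norm_le H hWb
  have hTb : ∀ x ∈ T, b * x * b⁻¹ ∈ T := fun x hx =>
    (mem_normalizer_iff.1 (normalizer_commutator_ge_right W (zpowers b) (mem_zpowers b)) x).1 hx
  have hgT : g ∈ T := by
    have hgW : g ∈ W := mem_sup_right (Or.inr (Or.inl rfl))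
    have h := commutator_mem_commutator hgW (mem_zpowers b)
    rw [commutatorElement_def] at h
    have h2 := hTb _ h
    have e : b * (g * b * g⁻¹ * b⁻¹) * b⁻¹ = g := by
      calc b * (g * b * g⁻¹ * b⁻¹) * b⁻¹
          = g1 * (b * g1 * b⁻¹)⁻¹ := by rw [hg1]; group
        _ = g := by
          rw [hg1, F.g2, mul_inv_rev, mul_inv_cancel_left, inv_eq_of_mul_eq_one_left F.sq]
    rwa [e] at h2
  have hg1T : g1 ∈ T := hTb g hgT
  obtain ⟨ea, eb, ec, L⟩ := H.lines F
  have hgne : g ≠ g1 := fun e => L.ne.1 (eq_zero_of_eq_neg (by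
    rw [← L.act_g.2.1, ← hg1, ← e, L.act_g.1.1]))
  have hbigT : Big ρ b T := by
    rcases hsh with h | ⟨g', F', h⟩ | ⟨a', z', D'⟩ | h
    · exact absurd (le_bot_iff.1 (h ▸ hRT)) hne
    · exfalso
      have ha := (h ▸ hRT) D.ha
      have := (card_fourGroup H F').2.2 a ha
      rw [pow_two, D.sq] at this
      exact D.z1 this
    · exfalso
      have h1 := (D'.invol hgT F.sq).resolve_left F.ne
      have h2 : g1 = z' := (D'.invol hg1T F.sq1).resolve_left fun e =>
        F.ne (by
          calc g = b⁻¹ * g1 * b := by rw [hg1]; group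
            _ = 1 := by rw [e, mul_one, inv_mul_cancel])
      exact hgne (h1.trans h2.symm)
    · exact h
  obtain ⟨-, ⟨⟨-, -, hcc⟩, hc2⟩, -, -⟩ := hbigT
  have hz0 : ∀ y ∈ T, Cen T y → y = 1 ∨ y = z := by
    have hcom : ∀ u ∈ T, ∀ v ∈ T, Cen T (u * v * u⁻¹ * v⁻¹) := by
      intro u hu v hv
      have h : (⟨u, hu⟩ : T) * ⟨v, hv⟩ * (⟨u, hu⟩ : T)⁻¹ * (⟨v, hv⟩ : T)⁻¹ ∈ center T := by
        rw [← hcc, ← commutatorElement_def, _root_.commutator_def]
        exact commutator_mem_commutator (mem_top _) (mem_top _)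
      exact ⟨mul_mem (mul_mem (mul_mem hu hv) (inv_mem hu)) (inv_mem hv),
        fun t ht => (congrArg Subtype.val (mem_center_iff.1 h ⟨t, ht⟩)).symm⟩
    have hzc : Cen T z := by
      have h := hcom _ (hRT D.ha1) _ (hRT D.ha)
      have e : b * a * b⁻¹ * a * (b * a * b⁻¹)⁻¹ * a⁻¹ = z := by rw [D.rel]; group
      rwa [e] at h
    intro y hy hyc
    by_contra hno
    push Not at hno
    have hmem : ∀ {x}, Cen T x → ∃ hx : x ∈ T, (⟨x, hx⟩ : T) ∈ center T := fun {x} hx =>
      ⟨hx.1, mem_center_iff.2 fun t => Subtype.ext (hx.2 t t.2).symm⟩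
    obtain ⟨_, my⟩ := hmem hyc
    obtain ⟨_, mz⟩ := hmem hzc
    obtain ⟨u, v, huv, huniv⟩ := Nat.card_eq_two_iff.1 hc2
    have hall : ∀ w : center T, w = 1 ∨ w = ⟨_, mz⟩ := by
      intro w
      have h1 : (⟨_, mz⟩ : center T) ≠ 1 := fun e =>
        D.z1 (congrArg (fun x : center T => ((x : T) : S)) e)
      have hin : ∀ x : center T, x = u ∨ x = v := fun x => by
        have : x ∈ ({u, v} : Set (center T)) := by rw [huniv]; trivial
        simpa using this
      rcases hin w with rfl | rfl <;> rcases hin 1 with h | h <;>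
        rcases hin ⟨_, mz⟩ with h' | h' <;> simp_all
    rcases hall ⟨_, my⟩ with e | e
    · exact hno.1 (congrArg (fun x : center T => ((x : T) : S)) e)
    · exact hno.2 (congrArg (fun x : center T => ((x : T) : S)) e)
  have hzT : z ∈ T := hRT D.cen.1
  have hzcT : Cen T z := by
    refine ⟨hzT, fun t ht => ?_⟩
    have h : (⟨b * a * b⁻¹, hRT D.ha1⟩ : T) * ⟨a, hRT D.ha⟩ * (⟨b * a * b⁻¹, hRT D.ha1⟩ : T)⁻¹ *
        (⟨a, hRT D.ha⟩ : T)⁻¹ ∈ center T := by
      rw [← hcc, ← commutatorElement_def, _root_.commutator_def]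
      exact commutator_mem_commutator (mem_top _) (mem_top _)
    have h2 : b * a * b⁻¹ * a * (b * a * b⁻¹)⁻¹ * a⁻¹ * t =
        t * (b * a * b⁻¹ * a * (b * a * b⁻¹)⁻¹ * a⁻¹) :=
      (congrArg Subtype.val (mem_center_iff.1 h ⟨t, ht⟩)).symm
    have e : b * a * b⁻¹ * a * (b * a * b⁻¹)⁻¹ * a⁻¹ = z := by rw [D.rel]; group
    rwa [e] at h2
  have hconj : ∀ u ∈ T, ∀ v ∈ T, u * v * u⁻¹ = v ∨ u * v * u⁻¹ = z * v := by
    intro u hu v hv
    have hcm : Cen T (u * v * u⁻¹ * v⁻¹) := by
      have h : (⟨u, hu⟩ : T) * ⟨v, hv⟩ * (⟨u, hu⟩ : T)⁻¹ * (⟨v, hv⟩ : T)⁻¹ ∈ center T := by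
        rw [← hcc, ← commutatorElement_def, _root_.commutator_def]
        exact commutator_mem_commutator (mem_top _) (mem_top _)
      exact ⟨mul_mem (mul_mem (mul_mem hu hv) (inv_mem hu)) (inv_mem hv),
        fun t ht => (congrArg Subtype.val (mem_center_iff.1 h ⟨t, ht⟩)).symm⟩
    rcases hz0 _ hcm.1 hcm with h | h
    · exact Or.inl (mul_inv_eq_one.1 h)
    · exact Or.inr (mul_inv_eq_iff_eq_mul.1 h)
  obtain ⟨r, hr, hwa, hwa1⟩ := exists_correct D.z2 (hzcT.2 a (hRT D.ha))
    (hzcT.2 _ (hRT D.ha1)) D.rel (hconj g hgT a (hRT D.ha)) (hconj g hgT _ (hRT D.ha1))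
  have hrR : r ∈ R := by
    rcases hr with rfl | rfl | rfl | rfl
    exacts [one_mem R, D.ha, D.ha1, mul_mem D.ha D.ha1]
  set w := r * g with hw
  have hwT : w ∈ T := mul_mem (hRT hrR) hgT
  -- `w` centralises `R`
  have hwR : ∀ x ∈ R, w * x = x * w := by
    intro x hx
    obtain ⟨r', hr', hx'⟩ := D.cover x hx
    have c0 : Commute w r' := by
      rcases hr' with rfl | rfl | rfl | rfl
      exacts [Commute.one_right _, hwa, hwa1, Commute.mul_right hwa hwa1]
    rcases hx' with rfl | rfl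
    · exact c0.eq
    · exact ((show Commute w z from (hzcT.2 w hwT).symm).mul_right c0).eq
  -- `w` centralises the fixed points of `b` in `N`
  have hnR : ∀ n ∈ N, ∀ x ∈ R, n * x * n⁻¹ ∈ R := fun n hn x hx =>
    (mem_normalizer_iff.1 (normalizer_commutator_ge_left M A (hNM hn)) x).1 hx
  have hwC : ∀ d ∈ N, b * d * b⁻¹ = d → d * w = w * d := by
    intro d hd hdb
    set c := d * w * d⁻¹ * w⁻¹ with hc
    have hdT : ∀ x ∈ T, d * x * d⁻¹ ∈ T := fun x hx =>
      (mem_normalizer_iff.1 (normalizer_commutator_ge_left W (zpowers b) (mem_sup_left hd)) x).1 hx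
    have hcT : c ∈ T := mul_mem (hdT w hwT) (inv_mem hwT)
    have hcN : c ∈ N := by
      rw [show c = d * (w * d⁻¹ * w⁻¹) by rw [hc]; group]
      exact mul_mem hd (Subgroup.Normal.conj_mem (pCore_normal 2) _ (inv_mem hd) w)
    have hdR : ∀ x ∈ R, d⁻¹ * x * d ∈ R := fun x hx => by
      have := hnR d⁻¹ (inv_mem hd) x hx
      rwa [inv_inv] at this
    have hcR : ∀ x ∈ R, c * x = x * c := by
      intro x hx
      have h1 : Commute w (d⁻¹ * x * d) := hwR _ (hdR x hx)
      have h2 : Commute (d * w * d⁻¹) x := by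
        show d * w * d⁻¹ * x = x * (d * w * d⁻¹)
        calc d * w * d⁻¹ * x = d * (w * (d⁻¹ * x * d)) * d⁻¹ := by group
          _ = _ := by rw [h1.eq]; group
      exact (h2.mul_left (show Commute w x from hwR x hx).inv_left).eq
    have hcf : b * c * b⁻¹ = c := by
      have hmem : c⁻¹ * (b * c * b⁻¹) ∈ R := by
        have h := commutator_mem_commutator (inv_mem (hNM hcN)) (mem_zpowers b)
        rw [commutatorElement_def, inv_inv] at h
        rw [hR, hAdef]
        rwa [show c⁻¹ * (b * c * b⁻¹) = c⁻¹ * b * c * b⁻¹ by group]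
      have hcc' : ∀ x ∈ R, b * c * b⁻¹ * x = x * (b * c * b⁻¹) := by
        intro x hx
        have h := hcR _ (conj_inv_mem H hRb x hx)
        calc b * c * b⁻¹ * x = b * (c * (b⁻¹ * x * b)) * b⁻¹ := by group
          _ = _ := by rw [h]; group
      have key : ∀ x ∈ R, c⁻¹ * (b * c * b⁻¹) * x = x * (c⁻¹ * (b * c * b⁻¹)) := fun x hx =>
        (((show Commute c x from hcR x hx).inv_left).mul_left (hcc' x hx)).eq
      rcases D.central hmem (key a D.ha).symm (key _ D.ha1).symm with h | h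
      · exact fixed_of_fixed H hR2 (one_mem R) h (by simp)
      · exact fixed_of_fixed H hR2 D.cen.1 h D.fix
    -- the orbit product
    set w1 := b * w * b⁻¹ with hw1
    set w2 := b * w1 * b⁻¹ with hw2
    have hw1T : w1 ∈ T := hTb w hwT
    have hw2T : w2 ∈ T := hTb w1 hw1T
    have hdb' : Commute b d := mul_inv_eq_iff_eq_mul.1 hdb
    have hdw : d * w * d⁻¹ = c * w := by rw [hc]; group
    have hdw1 : d * w1 * d⁻¹ = c * w1 := by
      calc d * w1 * d⁻¹ = (d * b) * w * (d * b)⁻¹ := by rw [hw1]; group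
        _ = b * (d * w * d⁻¹) * b⁻¹ := by rw [← hdb'.eq]; group
        _ = (b * c * b⁻¹) * w1 := by rw [hdw, hw1]; group
        _ = c * w1 := by rw [hcf]
    have hdw2 : d * w2 * d⁻¹ = c * w2 := by
      calc d * w2 * d⁻¹ = (d * b) * w1 * (d * b)⁻¹ := by rw [hw2]; group
        _ = b * (d * w1 * d⁻¹) * b⁻¹ := by rw [← hdb'.eq]; group
        _ = (b * c * b⁻¹) * w2 := by rw [hdw1, hw2]; group
        _ = c * w2 := by rw [hcf]
    set r1 := b * r * b⁻¹ with hr1d
    set r2 := b * r1 * b⁻¹ with hr2d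
    have hr1 : r1 ∈ R := hRb r hrR
    have hr2 : r2 ∈ R := hRb r1 hr1
    have hTR : ∀ u ∈ T, ∀ x ∈ R, u * x * u⁻¹ ∈ R := by
      intro u hu x hx
      rcases hconj u hu x (hRT hx) with h | h <;> rw [h]
      exacts [hx, mul_mem D.cen.1 hx]
    set g2 := b * g1 * b⁻¹ with hg2
    have hprodR : w * w1 * w2 ∈ R := by
      have e : w * w1 * w2 = r * (g * r1 * g⁻¹) * ((g * g1) * r2 * (g * g1)⁻¹) * (g * g1 * g2) := by
        rw [hw2, hw1, hw, hg2, hr2d, hr1d, hg1]; group
      rw [e, F.prod, mul_one]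
      exact mul_mem (mul_mem hrR (hTR g hgT r1 hr1)) (hTR _ (mul_mem hgT hg1T) r2 hr2)
    have hpc : ∀ u : S, u ∈ R → Commute (w * w1 * w2) u := by
      intro u hu
      have cw : ∀ x ∈ R, Commute w x := fun x hx => hwR x hx
      have cw1 : ∀ x ∈ R, Commute w1 x := fun x hx => by
        show w1 * x = x * w1
        calc w1 * x = b * (w * (b⁻¹ * x * b)) * b⁻¹ := by rw [hw1]; group
          _ = _ := by rw [(cw _ (conj_inv_mem H hRb x hx)).eq, hw1]; group
      have cw2 : ∀ x ∈ R, Commute w2 x := fun x hx => by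
        show w2 * x = x * w2
        calc w2 * x = b * (w1 * (b⁻¹ * x * b)) * b⁻¹ := by rw [hw2]; group
          _ = _ := by rw [(cw1 _ (conj_inv_mem H hRb x hx)).eq, hw2]; group
      exact ((cw u hu).mul_left (cw1 u hu)).mul_left (cw2 u hu)
    have hpz := D.central hprodR (hpc a D.ha).eq.symm (hpc _ D.ha1).eq.symm
    have hdz : d * z * d⁻¹ = z := by
      have h := hnR d hd z D.cen.1
      have h2 : (d * z * d⁻¹) * (d * z * d⁻¹) = 1 := by
        calc (d * z * d⁻¹) * (d * z * d⁻¹) = d * (z * z) * d⁻¹ := by group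
          _ = 1 := by rw [D.z2, mul_one, mul_inv_cancel]
      refine (D.invol h h2).resolve_left fun e => D.z1 ?_
      calc z = d⁻¹ * (d * z * d⁻¹) * d := by group
        _ = 1 := by rw [e, mul_one, inv_mul_cancel]
    have hdp : d * (w * w1 * w2) * d⁻¹ = w * w1 * w2 := by
      rcases hpz with e | e <;> rw [e]
      · simp
      · exact hdz
    rw [show d * (w * w1 * w2) * d⁻¹ = (d * w * d⁻¹) * (d * w1 * d⁻¹) * (d * w2 * d⁻¹) by group,
      hdw, hdw1, hdw2] at hdp
    -- `c` commutes with the orbit product up to `z`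
    set k := w * c * w⁻¹ * c⁻¹ with hk
    have hkz : k = 1 ∨ k = z := by
      rcases hconj w hwT c hcT with h | h <;> rw [hk, h]
      · exact Or.inl (mul_inv_cancel c)
      · exact Or.inr (mul_inv_cancel_right z c)
    have hkb : b * k * b⁻¹ = k := by rcases hkz with e | e <;> simp [e, D.fix]
    have hkc : ∀ x ∈ T, Commute k x := fun x hx => by
      rcases hkz with e | e <;> rw [e]
      exacts [Commute.one_left _, hzcT.2 x hx]
    have hk2 : k * k = 1 := by rcases hkz with e | e <;> simp [e, D.z2]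
    have hwc : w * c = k * c * w := by rw [hk]; group
    have hw1c : w1 * c = k * c * w1 := by
      calc w1 * c = b * (w * c) * b⁻¹ := by
            conv_lhs => rw [← hcf]
            rw [hw1]; group
        _ = (b * k * b⁻¹) * (b * c * b⁻¹) * w1 := by rw [hwc, hw1]; group
        _ = k * c * w1 := by rw [hkb, hcf]
    have e1 : c * w * (c * w1) * (c * w2) = k * (c * c * c) * (w * w1 * w2) := by
      have kc := (hkc c hcT).eq
      calc c * w * (c * w1) * (c * w2) = c * (w * c) * (w1 * c) * w2 := by group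
        _ = c * (k * c * w) * (k * c * w1) * w2 := by rw [hwc, hw1c]
        _ = (c * k) * c * (w * k) * c * w1 * w2 := by group
        _ = (k * c) * c * (k * w) * c * w1 * w2 := by rw [kc, (hkc w hwT).eq]
        _ = k * c * (c * k) * (w * c) * w1 * w2 := by group
        _ = k * c * (k * c) * (k * c * w) * w1 * w2 := by rw [hwc, kc]
        _ = k * (c * k) * (c * k) * c * w * w1 * w2 := by group
        _ = k * (k * c) * (k * c) * c * w * w1 * w2 := by rw [kc]
        _ = (k * k) * (c * k) * c * c * w * w1 * w2 := by group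
        _ = k * c * c * c * w * w1 * w2 := by rw [hk2, one_mul, kc]
        _ = _ := by group
    rw [e1] at hdp
    have hc3 : c * c * c = k := by
      have h := mul_eq_right.1 hdp
      rw [eq_inv_of_mul_eq_one_right h, inv_eq_of_mul_eq_one_left hk2]
    have hc6 : c ^ 6 = 1 := by
      calc c ^ 6 = (c * c * c) * (c * c * c) := by
            simp only [pow_succ, pow_zero, one_mul, mul_assoc]
        _ = 1 := by rw [hc3, hk2]
    have hc2 : c * c = 1 := by
      refine eq_one_of_pow_three hN2 (mul_mem hcN hcN) ?_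
      calc c * c * (c * c) * (c * c) = c ^ 6 := by
            simp only [pow_succ, pow_zero, one_mul, mul_assoc]
        _ = 1 := hc6
    have hck : c = k := by rw [← hc3, hc2, one_mul]
    have hc1 : k = 1 := by
      rw [hk, hck, ← (hkc w hwT).eq]; group
    rw [hck, hc1] at hc
    exact mul_inv_eq_iff_eq_mul.1 (mul_inv_eq_one.1 hc.symm)
  -- hence lies in `N`
  have hwN : ∀ n ∈ N, w * n = n * w := by
    intro n hn
    have hAN : A ≤ normalizer (N : Set S) := by rw [Subgroup.normalizer_eq_top]; exact le_top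
    have hcopN : (Nat.card A).Coprime (Nat.card N) := hcop.coprime_dvd_right (card_dvd_of_le hNM)
    have hsN : Group.IsSolvable A ∨ Group.IsSolvable N := Or.inr inferInstance
    obtain ⟨x, hx, d, hd, rfl⟩ := CoprimeAct.exists_mul_of_mem hAN hcopN hsN hn
    have h1 : Commute w x := hwR x (commutator_mono hNM le_rfl hx)
    have hdb : b * d * b⁻¹ = d :=
      mul_inv_eq_iff_eq_mul.2 ((mem_centralizer_iff.1 hd.2) b (mem_zpowers b))
    have h2 : Commute w d := (hwC d hd.1 hdb).symm
    exact (h1.mul_right h2).eq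
  have hwcore : w ∈ N := by
    refine mem_pCore_of_centralizes ?_ fun p hp y hy => ?_
    · obtain ⟨k, hk⟩ := hW2 ⟨w, (le_normalizer_iff_commutator_le_left.1 hWbz) hwT⟩
      exact ⟨k, congrArg Subtype.val hk⟩
    · haveI := Fact.mk hp
      by_cases hp2 : p = 2
      · subst hp2; exact hwN y hy
      by_cases hp3 : p = 3
      · subst hp3
        rw [hO3, mem_bot] at hy
        rw [hy, mul_one, one_mul]
      have hp5 : 5 ≤ p := by
        have := hp.two_le
        by_contra h
        interval_cases p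
        · exact hp2 rfl
        · exact hp3 rfl
        · norm_num at hp
      have hfixp := normal_fixed H F hp5 (isPGroup_pCore (G := S) p)
      have hry : Commute r y := commute_of_normal_of_disjoint N (Cfsg.pCore p S) (pCore_normal 2)
        (pCore_normal p) (IsPGroup.disjoint_of_ne 2 p (Ne.symm hp2) _ _ hN2 (isPGroup_pCore p))
        r y (hRN hrR) hy
      have hgy : Commute g y := by
        have hgi : g⁻¹ = g := inv_eq_of_mul_eq_one_left F.sq
        have hmv : ∀ u ∈ Cfsg.pCore p S, g1 * u * g1⁻¹ = g * u * g⁻¹ := by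
          intro u hu
          have hgu : g * u * g⁻¹ ∈ Cfsg.pCore p S :=
            Subgroup.Normal.conj_mem (pCore_normal p) u hu g
          have hub : b⁻¹ * u * b = u := by
            conv_lhs => rw [← hfixp u hu]
            group
          calc g1 * u * g1⁻¹ = b * (g * (b⁻¹ * u * b) * g⁻¹) * b⁻¹ := by rw [hg1]; group
            _ = g * u * g⁻¹ := by rw [hub, hfixp _ hgu]
        -- the product of the two moves trivially, and so does its conjugate
        have hprod : ∀ u ∈ Cfsg.pCore p S, (g * g1) * u * (g * g1)⁻¹ = u := by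
          intro u hu
          calc (g * g1) * u * (g * g1)⁻¹ = g * (g1 * u * g1⁻¹) * g⁻¹ := by group
            _ = (g * g) * u * (g * g)⁻¹ := by rw [hmv u hu]; group
            _ = u := by rw [F.sq]; group
        have hby : b * (g * g1) * b⁻¹ = g := by
          rw [hg1, ← F.g2]; exact conj_cube H.cube g
        have h := hprod (b⁻¹ * y * b) (by
          have := Subgroup.Normal.conj_mem (pCore_normal p) y hy b⁻¹
          rwa [inv_inv] at this)
        show g * y = y * g
        refine mul_inv_eq_iff_eq_mul.1 ?_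
        calc g * y * g⁻¹ = b * ((g * g1) * (b⁻¹ * y * b) * (g * g1)⁻¹) * b⁻¹ := by
              conv_lhs => rw [← hby]
              group
          _ = y := by rw [h]; group
      exact (hry.mul_left hgy).eq
  have hgN : g ∈ N := by
    have : g = r⁻¹ * w := by rw [hw, inv_mul_cancel_left]
    rw [this]
    exact mul_mem (inv_mem (hRN hrR)) hwcore
  -- but then `g` lies in `R`
  have hgR : g ∈ R := by
    have h := commutator_mem_commutator (hNM hgN) (mem_zpowers b)
    rw [commutatorElement_def] at h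
    have h2 := hRb _ h
    have e : b * (g * b * g⁻¹ * b⁻¹) * b⁻¹ = g := by
      calc b * (g * b * g⁻¹ * b⁻¹) * b⁻¹
          = g1 * (b * g1 * b⁻¹)⁻¹ := by rw [hg1]; group
        _ = g := by
          rw [hg1, F.g2, mul_inv_rev, mul_inv_cancel_left, inv_eq_of_mul_eq_one_left F.sq]
    rwa [e] at h2
  have h1 := (D.invol hgR F.sq).resolve_left F.ne
  have h2 : g1 = z := by rw [hg1, h1, D.fix]
  exact hgne (h1.trans h2.symm)

end CfsgLib.CubicBlock
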