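import Mathlib

/-!
An element `b` of order three acting on a space over the field with three elements with a single
nontrivial Jordan block, of size three. Basic tools: an involution commuting with `b` leaves `b`
trivial on one of its eigenspaces, and a four group moved by `b` has three lines permuted by `b`.
-/

set_option autoImplicit false
set_option linter.unusedSectionVars false

namespace CfsgLib.CubicBlock

open Subgroup

variable {S : Type*} [Group S] {E : Type*} [AddCommGroup E] [Module (ZMod 3) E] [Finite E]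
  {ρ : Representation (ZMod 3) S E} {b : S}

theorem three (x : E) : x + x + x = 0 := by
  have h : ((1 : ZMod 3) + 1 + 1) • x = 0 := by
    rw [show (1 : ZMod 3) + 1 + 1 = 0 by decide, zero_smul]
  simpa [add_smul] using h

theorem eq_zero_of_two {x : E} (h : x + x = 0) : x = 0 := by
  have := three x
  rwa [h, zero_add] at this

theorem eq_zero_of_eq_neg {x : E} (h : x = -x) : x = 0 :=
  eq_zero_of_two (eq_neg_iff_add_eq_zero.1 h)

theorem smul_cases (c : ZMod 3) : c = 0 ∨ c = 1 ∨ c = -1 := by revert c; decide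

/-- `b` has order three, rank at most two above the identity, and is not quadratic. -/
structure Hyp (ρ : Representation (ZMod 3) S E) (b : S) : Prop where
  inj : Function.Injective ρ
  cube : b ^ 3 = 1
  rank : Module.finrank (ZMod 3) (LinearMap.range (ρ b - 1)) ≤ 2
  cubic : ∃ v, (ρ b - 1) ((ρ b - 1) v) ≠ 0

theorem rho_mul (ρ : Representation (ZMod 3) S E) (x y : S) (v : E) :
    ρ (x * y) v = ρ x (ρ y v) := by rw [map_mul]; rfl

theorem rho_one (ρ : Representation (ZMod 3) S E) (v : E) : ρ 1 v = v := by rw [map_one]; rfl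

theorem rho_inv_apply (ρ : Representation (ZMod 3) S E) (x : S) (v : E) :
    ρ x⁻¹ (ρ x v) = v := by rw [← rho_mul, inv_mul_cancel, rho_one]

theorem rho_apply_inv (ρ : Representation (ZMod 3) S E) (x : S) (v : E) :
    ρ x (ρ x⁻¹ v) = v := by rw [← rho_mul, mul_inv_cancel, rho_one]

theorem Hyp.eq_one (H : Hyp ρ b) {x : S} (h : ∀ v, ρ x v = v) : x = 1 :=
  H.inj (LinearMap.ext fun v => by rw [h, rho_one])

theorem Hyp.eq_of (H : Hyp ρ b) {x y : S} (h : ∀ v, ρ x v = ρ y v) : x = y :=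
  H.inj (LinearMap.ext h)

theorem Hyp.ne_one (H : Hyp ρ b) : b ≠ 1 := by
  rintro rfl
  obtain ⟨v, hv⟩ := H.cubic
  exact hv (by simp)

theorem Hyp.b_sq_mul (H : Hyp ρ b) : b * b = b⁻¹ :=
  eq_inv_of_mul_eq_one_left (by rw [← H.cube, pow_three, mul_assoc])

theorem Hyp.b_cases (H : Hyp ρ b) {s : S} (hs : s ∈ zpowers b) : s = 1 ∨ s = b ∨ s = b * b := by
  obtain ⟨n, rfl⟩ := mem_zpowers_iff.1 hs
  have h3 : b ^ (3 : ℤ) = 1 := by exact_mod_cast H.cube
  rw [← Int.emod_add_mul_ediv n 3, zpow_add, zpow_mul, h3, one_zpow, mul_one]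
  have h1 := Int.emod_nonneg n (by norm_num : (3 : ℤ) ≠ 0)
  have h2 := Int.emod_lt_of_pos n (by norm_num : (0 : ℤ) < 3)
  interval_cases n % 3
  · exact Or.inl (zpow_zero b)
  · exact Or.inr (Or.inl (zpow_one b))
  · exact Or.inr (Or.inr (zpow_two b))

theorem d_apply (v : E) : (ρ b - 1) v = ρ b v - v := rfl

theorem Hyp.d_cube (H : Hyp ρ b) (v : E) : (ρ b - 1) ((ρ b - 1) ((ρ b - 1) v)) = 0 := by
  have h : ρ b (ρ b (ρ b v)) = v := by
    rw [← rho_mul, ← rho_mul, ← pow_three', H.cube, rho_one]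
  simp only [d_apply, map_sub]
  rw [h]
  calc v - ρ b (ρ b v) - (ρ b (ρ b v) - ρ b v) - (ρ b (ρ b v) - ρ b v - (ρ b v - v))
      = (ρ b v + ρ b v + ρ b v) - (ρ b (ρ b v) + ρ b (ρ b v) + ρ b (ρ b v)) := by abel
    _ = 0 := by rw [three, three, sub_zero]

theorem LI_pair {x y : E} (h : ∀ a c : ZMod 3, a • x + c • y = 0 → a = 0 ∧ c = 0)
    {W : Submodule (ZMod 3) E} (hx : x ∈ W) (hy : y ∈ W)
    (hW : Module.finrank (ZMod 3) W ≤ 2) {z : E} (hz : z ∈ W) :
    ∃ a c : ZMod 3, a • x + c • y = z := by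
  have hli : LinearIndependent (ZMod 3) ![x, y] := LinearIndependent.pair_iff.2 h
  have hc : Module.finrank (ZMod 3) (Submodule.span (ZMod 3) (Set.range ![x, y])) = 2 := by
    rw [finrank_span_eq_card hli]; simp
  have hle : Submodule.span (ZMod 3) (Set.range ![x, y]) ≤ W := by
    rw [Submodule.span_le]
    rintro _ ⟨i, rfl⟩
    fin_cases i <;> simpa
  have heq := Submodule.eq_of_le_of_finrank_le hle (by omega)
  rw [← heq, Matrix.range_cons, Matrix.range_cons, Matrix.range_empty, Set.union_empty,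
    Set.singleton_union] at hz
  exact Submodule.mem_span_pair.1 hz

/-- An involution commuting with `b` leaves `b` trivial on one of its eigenspaces. -/
theorem Hyp.one_side (H : Hyp ρ b) {u : S} (hu : u * u = 1) (hub : u * b = b * u) :
    (∀ v, ρ u v = v → ρ b v = v) ∨ (∀ v, ρ u v = -v → ρ b v = v) := by
  by_contra hne
  push Not at hne
  obtain ⟨⟨p, hp, hp'⟩, m, hm, hm'⟩ := hne
  have hcomm : ∀ v, ρ u ((ρ b - 1) v) = (ρ b - 1) (ρ u v) := fun v => by
    rw [d_apply, d_apply, map_sub, ← rho_mul, hub, rho_mul]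
  set x := (ρ b - 1) p with hx
  set y := (ρ b - 1) m with hy
  have hxu : ρ u x = x := by rw [hx, hcomm, hp]
  have hyu : ρ u y = -y := by rw [hy, hcomm, hm, map_neg]
  have hx0 : x ≠ 0 := fun e => hp' (by rw [hx, d_apply, sub_eq_zero] at e; exact e)
  have hy0 : y ≠ 0 := fun e => hm' (by rw [hy, d_apply, sub_eq_zero] at e; exact e)
  have hind : ∀ a c : ZMod 3, a • x + c • y = 0 → a = 0 ∧ c = 0 := by
    intro a c h
    have h2 := congrArg (ρ u) h
    rw [map_add, map_smul, map_smul, hxu, hyu, map_zero, smul_neg] at h2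
    have ha : a • x = 0 := eq_zero_of_two (by
      calc a • x + a • x = (a • x + c • y) + (a • x + -(c • y)) := by abel
        _ = 0 := by rw [h, h2, add_zero])
    rw [ha, zero_add] at h
    exact ⟨(smul_eq_zero.1 ha).resolve_right hx0, (smul_eq_zero.1 h).resolve_right hy0⟩
  have hspan : ∀ z, ∃ a c : ZMod 3, a • x + c • y = (ρ b - 1) z := fun z =>
    LI_pair hind (LinearMap.mem_range_self _ p) (LinearMap.mem_range_self _ m) H.rank
      (LinearMap.mem_range_self _ z)
  have key : ∀ (s : E) (e : ZMod 3), s ≠ 0 → (ρ b - 1) s = e • s → (ρ b - 1) s = 0 := by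
    intro s e hs he
    have h3 := H.d_cube s
    rw [he, map_smul, he, map_smul, map_smul, he] at h3
    rcases smul_cases e with rfl | rfl | rfl
    · rw [he, zero_smul]
    · exact absurd (by simpa using h3) hs
    · exact absurd (by simpa using h3) hs
  have hdx : (ρ b - 1) x = 0 := by
    obtain ⟨a, c, h⟩ := hspan x
    have h2 := congrArg (ρ u) h
    rw [hcomm, map_add, map_smul, map_smul, hxu, hyu, smul_neg, ← h] at h2
    have hc : c • y = 0 := eq_zero_of_two (by
      calc c • y + c • y = (a • x + c • y) - (a • x + -(c • y)) := by abel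
        _ = 0 := by rw [h2, sub_self])
    rw [hc, add_zero] at h
    exact key x a hx0 h.symm
  have hdy : (ρ b - 1) y = 0 := by
    obtain ⟨a, c, h⟩ := hspan y
    have h2 := congrArg (ρ u) h
    rw [hcomm, map_add, map_smul, map_smul, hxu, hyu, map_neg, ← h, smul_neg] at h2
    have ha : a • x = 0 := eq_zero_of_two (by
      calc a • x + a • x = (a • x + -(c • y)) + (a • x + c • y) := by abel
        _ = 0 := by rw [h2, neg_add_cancel])
    rw [ha, zero_add] at h
    exact key y c hy0 h.symm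
  obtain ⟨v, hv⟩ := H.cubic
  obtain ⟨a, c, h⟩ := hspan v
  exact hv (by rw [← h, map_add, map_smul, map_smul, hdx, hdy, smul_zero, smul_zero, add_zero])

/-- The elements acting trivially on a set of vectors. -/
def fixer (ρ : Representation (ZMod 3) S E) (W : Set E) : Subgroup S where
  carrier := {x | ∀ v ∈ W, ρ x v = v}
  one_mem' := fun v _ => rho_one ρ v
  mul_mem' := fun {x y} hx hy v hv => by rw [rho_mul, hy v hv, hx v hv]
  inv_mem' := fun {x} hx v hv => by
    calc ρ x⁻¹ v = ρ x⁻¹ (ρ x v) := by rw [hx v hv]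
      _ = v := rho_inv_apply ρ x v

theorem mem_fixer {W : Set E} {x : S} : x ∈ fixer ρ W ↔ ∀ v ∈ W, ρ x v = v := Iff.rfl

/-- Where `b` is trivial and `T` leaves invariant, `⁅T, ⟨b⟩⁆` is trivial. -/
theorem commutator_le_fixer {T : Subgroup S} {W : Set E} (hT : ∀ t ∈ T, ∀ v ∈ W, ρ t v ∈ W)
    (hb : ∀ v ∈ W, ρ b v = v) : ⁅T, zpowers b⁆ ≤ fixer ρ W := by
  rw [commutator_le]
  intro t ht s hs v hv
  have hbf : zpowers b ≤ fixer ρ W := zpowers_le.2 hb
  rw [commutatorElement_def, rho_mul, rho_mul, rho_mul, hbf (inv_mem hs) v hv,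
    hbf hs _ (hT _ (inv_mem ht) v hv), rho_apply_inv]

/-! ### A four group moved by `b` -/

/-- `g` generates with its `b`-conjugates a four group moved by `b`. -/
structure Four (b g : S) : Prop where
  sq : g * g = 1
  comm : g * (b * g * b⁻¹) = b * g * b⁻¹ * g
  prod : g * (b * g * b⁻¹) * (b * (b * g * b⁻¹) * b⁻¹) = 1
  ne : g ≠ 1

variable {g : S}

theorem Four.sq1 (F : Four b g) : (b * g * b⁻¹) * (b * g * b⁻¹) = 1 := by
  calc (b * g * b⁻¹) * (b * g * b⁻¹) = b * (g * g) * b⁻¹ := by group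
    _ = 1 := by rw [F.sq, mul_one, mul_inv_cancel]

theorem Four.g2 (F : Four b g) : b * (b * g * b⁻¹) * b⁻¹ = g * (b * g * b⁻¹) := by
  have h := F.prod
  have h2 : (g * (b * g * b⁻¹)) * (g * (b * g * b⁻¹)) = 1 := by
    calc (g * (b * g * b⁻¹)) * (g * (b * g * b⁻¹))
        = g * ((b * g * b⁻¹) * g) * (b * g * b⁻¹) := by group
      _ = g * (g * (b * g * b⁻¹)) * (b * g * b⁻¹) := by rw [← F.comm]
      _ = (g * g) * ((b * g * b⁻¹) * (b * g * b⁻¹)) := by group
      _ = 1 := by rw [F.sq, F.sq1, mul_one]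
  calc b * (b * g * b⁻¹) * b⁻¹
      = (g * (b * g * b⁻¹))⁻¹ * ((g * (b * g * b⁻¹)) * (b * (b * g * b⁻¹) * b⁻¹)) := by group
    _ = (g * (b * g * b⁻¹))⁻¹ := by rw [h, mul_one]
    _ = g * (b * g * b⁻¹) := inv_eq_of_mul_eq_one_left h2

/-- The joint eigenspace with the given signs for `g` and `b g b⁻¹`. -/
def piece (ρ : Representation (ZMod 3) S E) (b g : S) (s t : ZMod 3) : Submodule (ZMod 3) E where
  carrier := {v | ρ g v = s • v ∧ ρ (b * g * b⁻¹) v = t • v}
  zero_mem' := by simp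
  add_mem' := fun {x y} hx hy => by
    refine ⟨?_, ?_⟩
    · rw [map_add, hx.1, hy.1, smul_add]
    · rw [map_add, hx.2, hy.2, smul_add]
  smul_mem' := fun c x hx => by
    refine ⟨?_, ?_⟩
    · rw [map_smul, hx.1, smul_comm]
    · rw [map_smul, hx.2, smul_comm]

/-- The lines `a`, `c`, `e` and the fixed space. -/
abbrev La (ρ : Representation (ZMod 3) S E) (b g : S) := piece ρ b g 1 (-1)
abbrev Lb (ρ : Representation (ZMod 3) S E) (b g : S) := piece ρ b g (-1) 1
abbrev Lc (ρ : Representation (ZMod 3) S E) (b g : S) := piece ρ b g (-1) (-1)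
abbrev L0 (ρ : Representation (ZMod 3) S E) (b g : S) := piece ρ b g 1 1

theorem mem_piece {s t : ZMod 3} {v : E} :
    v ∈ piece ρ b g s t ↔ ρ g v = s • v ∧ ρ (b * g * b⁻¹) v = t • v := Iff.rfl

theorem Four.decomp (F : Four b g) (v : E) : ∃ v0 ∈ L0 ρ b g, ∃ va ∈ La ρ b g,
    ∃ vb ∈ Lb ρ b g, ∃ vc ∈ Lc ρ b g, v = v0 + va + vb + vc := by
  set A := ρ g with hA
  set B := ρ (b * g * b⁻¹) with hB
  have hAA : ∀ x, A (A x) = x := fun x => by rw [hA, ← rho_mul, F.sq, rho_one]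
  have hBB : ∀ x, B (B x) = x := fun x => by rw [hB, ← rho_mul, F.sq1, rho_one]
  have hBA : ∀ x, B (A x) = A (B x) := fun x => by rw [hA, hB, ← rho_mul, ← rho_mul, F.comm]
  refine ⟨v + A v + (B v + A (B v)), ?_, v + A v - (B v + A (B v)), ?_,
    v - A v + (B v - A (B v)), ?_, v - A v - (B v - A (B v)), ?_, ?_⟩
  iterate 4
    refine mem_piece.2 ⟨?_, ?_⟩ <;>
      simp only [← hA, ← hB, map_add, map_sub, hAA, hBB, hBA, one_smul, neg_smul] <;> abel
  calc v = v + (v + v + v) := by rw [three, add_zero]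
    _ = _ := by abel

theorem zero_of_sum {va vb vc : E} (ha : va ∈ La ρ b g) (hb : vb ∈ Lb ρ b g)
    (hc : vc ∈ Lc ρ b g) (h : va + vb + vc = 0) : va = 0 ∧ vb = 0 ∧ vc = 0 := by
  simp only [mem_piece, one_smul, neg_smul] at ha hb hc
  have h1 := congrArg (ρ g) h
  rw [map_add, map_add, ha.1, hb.1, hc.1, map_zero] at h1
  have hva : va = 0 := eq_zero_of_two (by
    calc va + va = (va + vb + vc) + (va + -vb + -vc) := by abel
      _ = 0 := by rw [h, h1, add_zero])
  have h2 := congrArg (ρ (b * g * b⁻¹)) h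
  rw [map_add, map_add, ha.2, hb.2, hc.2, map_zero] at h2
  have hvb : vb = 0 := eq_zero_of_two (by
    calc vb + vb = (va + vb + vc) + (-va + vb + -vc) := by abel
      _ = 0 := by rw [h, h2, add_zero])
  rw [hva, hvb, zero_add, zero_add] at h
  exact ⟨hva, hvb, h⟩

theorem Four.map_La (F : Four b g) {v : E} (hv : v ∈ La ρ b g) : ρ b v ∈ Lb ρ b g := by
  simp only [mem_piece, one_smul, neg_smul] at hv ⊢
  have h1 : ρ (b * g * b⁻¹) (ρ b v) = ρ b v := by
    rw [← rho_mul, inv_mul_cancel_right, rho_mul, hv.1]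
  have h2 : ρ (g * (b * g * b⁻¹)) (ρ b v) = -ρ b v := by
    rw [← F.g2, ← rho_mul, inv_mul_cancel_right, rho_mul, hv.2, map_neg]
  rw [rho_mul, h1] at h2
  exact ⟨h2, h1⟩

theorem Four.map_Lb (F : Four b g) {v : E} (hv : v ∈ Lb ρ b g) : ρ b v ∈ Lc ρ b g := by
  simp only [mem_piece, one_smul, neg_smul] at hv ⊢
  have h1 : ρ (b * g * b⁻¹) (ρ b v) = -ρ b v := by
    rw [← rho_mul, inv_mul_cancel_right, rho_mul, hv.1, map_neg]
  have h2 : ρ (g * (b * g * b⁻¹)) (ρ b v) = ρ b v := by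
    rw [← F.g2, ← rho_mul, inv_mul_cancel_right, rho_mul, hv.2]
  rw [rho_mul, h1, map_neg] at h2
  exact ⟨by rw [← neg_neg (ρ g (ρ b v)), h2], h1⟩

theorem Four.map_Lc (F : Four b g) {v : E} (hv : v ∈ Lc ρ b g) : ρ b v ∈ La ρ b g := by
  simp only [mem_piece, one_smul, neg_smul] at hv ⊢
  have h1 : ρ (b * g * b⁻¹) (ρ b v) = -ρ b v := by
    rw [← rho_mul, inv_mul_cancel_right, rho_mul, hv.1, map_neg]
  have h2 : ρ (g * (b * g * b⁻¹)) (ρ b v) = -ρ b v := by
    rw [← F.g2, ← rho_mul, inv_mul_cancel_right, rho_mul, hv.2, map_neg]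
  rw [rho_mul, h1, map_neg] at h2
  exact ⟨neg_inj.1 h2, h1⟩

theorem Four.map_L0 (F : Four b g) {v : E} (hv : v ∈ L0 ρ b g) : ρ b v ∈ L0 ρ b g := by
  simp only [mem_piece, one_smul] at hv ⊢
  have h1 : ρ (b * g * b⁻¹) (ρ b v) = ρ b v := by
    rw [← rho_mul, inv_mul_cancel_right, rho_mul, hv.1]
  have h2 : ρ (g * (b * g * b⁻¹)) (ρ b v) = ρ b v := by
    rw [← F.g2, ← rho_mul, inv_mul_cancel_right, rho_mul, hv.2]
  rw [rho_mul, h1] at h2
  exact ⟨h2, h1⟩

/-- The four group lines: generators, and `b` trivial on the fixed space. -/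
structure Lines (ρ : Representation (ZMod 3) S E) (b g : S) (ea eb ec : E) : Prop where
  ma : ea ∈ La ρ b g
  mb : eb ∈ Lb ρ b g
  mc : ec ∈ Lc ρ b g
  ne : ea ≠ 0 ∧ eb ≠ 0 ∧ ec ≠ 0
  ba : ρ b ea = eb
  bb : ρ b eb = ec
  bc : ρ b ec = ea
  spa : ∀ v ∈ La ρ b g, ∃ c : ZMod 3, v = c • ea
  spb : ∀ v ∈ Lb ρ b g, ∃ c : ZMod 3, v = c • eb
  spc : ∀ v ∈ Lc ρ b g, ∃ c : ZMod 3, v = c • ec
  fix : ∀ v ∈ L0 ρ b g, ρ b v = v

theorem Hyp.lines (H : Hyp ρ b) (F : Four b g) : ∃ ea eb ec, Lines ρ b g ea eb ec := by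
  have hb3 : ∀ v, ρ b (ρ b (ρ b v)) = v := fun v => by
    rw [← rho_mul, ← rho_mul, ← pow_three', H.cube, rho_one]
  obtain ⟨ea, hea, hea0⟩ : ∃ ea ∈ La ρ b g, ea ≠ 0 := by
    by_contra hne
    push Not at hne
    refine F.ne (H.eq_one fun v => ?_)
    obtain ⟨v0, h0, va, ha, vb, hb, vc, hc, rfl⟩ := F.decomp (ρ := ρ) v
    have hc' : vc = 0 := by
      have := hne _ (F.map_Lc hc)
      rw [← rho_inv_apply ρ b vc, this, map_zero]
    have hb' : vb = 0 := by
      have h := hne _ (F.map_Lc (F.map_Lb hb))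
      rw [← hb3 vb, h, map_zero]
    rw [hne va ha, hb', hc', add_zero, add_zero, add_zero]
    simpa [mem_piece] using (mem_piece.1 h0).1
  set eb := ρ b ea with heb
  set ec := ρ b eb with hec
  have mb := F.map_La hea
  have mc := F.map_Lb mb
  have hbc : ρ b ec = ea := hb3 ea
  have heb0 : eb ≠ 0 := fun e => hea0 (by rw [← rho_inv_apply ρ b ea, ← heb, e, map_zero])
  have hec0 : ec ≠ 0 := fun e => heb0 (by rw [← rho_inv_apply ρ b eb, ← hec, e, map_zero])
  have hind : ∀ a c : ZMod 3, a • (ρ b - 1) ea + c • (ρ b - 1) eb = 0 → a = 0 ∧ c = 0 := by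
    intro a c h
    rw [d_apply, d_apply, ← heb, ← hec] at h
    have h' : (-a) • ea + (a - c) • eb + c • ec = 0 := by
      rw [← h, sub_smul, neg_smul, smul_sub, smul_sub]; abel
    obtain ⟨h1, -, h3⟩ := zero_of_sum (Submodule.smul_mem _ _ hea) (Submodule.smul_mem _ _ mb)
      (Submodule.smul_mem _ _ mc) h'
    exact ⟨neg_eq_zero.1 ((smul_eq_zero.1 h1).resolve_right hea0),
      (smul_eq_zero.1 h3).resolve_right hec0⟩
  have hspan : ∀ z, ∃ a c : ZMod 3, a • (ρ b - 1) ea + c • (ρ b - 1) eb = (ρ b - 1) z := fun z =>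
    LI_pair hind (LinearMap.mem_range_self _ ea) (LinearMap.mem_range_self _ eb) H.rank
      (LinearMap.mem_range_self _ z)
  have spa : ∀ v ∈ La ρ b g, ∃ c : ZMod 3, v = c • ea := by
    intro v hv
    obtain ⟨a, c, h⟩ := hspan v
    rw [d_apply, d_apply, d_apply, ← heb, ← hec] at h
    have h' : (-(a • ea) + v) + ((a - c) • eb - ρ b v) + c • ec = 0 := by
      rw [← sub_eq_zero.2 h, sub_smul, smul_sub, smul_sub]; abel
    obtain ⟨h1, -, -⟩ := zero_of_sum
      (Submodule.add_mem _ (Submodule.neg_mem _ (Submodule.smul_mem _ _ hea)) hv)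
      (Submodule.sub_mem _ (Submodule.smul_mem _ _ mb) (F.map_La hv))
      (Submodule.smul_mem _ _ mc) h'
    exact ⟨a, (neg_inj.1 (eq_neg_of_add_eq_zero_left h1)).symm⟩
  refine ⟨ea, eb, ec, hea, mb, mc, ⟨hea0, heb0, hec0⟩, rfl, rfl, hbc, spa, ?_, ?_, ?_⟩
  · intro v hv
    obtain ⟨c, hc⟩ := spa _ (F.map_Lc (F.map_Lb hv))
    refine ⟨c, ?_⟩
    rw [← hb3 v, hc, map_smul, ← heb]
  · intro v hv
    obtain ⟨c, hc⟩ := spa _ (F.map_Lc hv)
    refine ⟨c, ?_⟩
    have := congrArg (fun x => ρ b (ρ b x)) hc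
    simp only [map_smul, ← heb, ← hec, hb3] at this
    exact this
  · intro v hv
    obtain ⟨a, c, h⟩ := hspan v
    rw [d_apply, d_apply, d_apply, ← heb, ← hec] at h
    have hw : ρ b v - v ∈ L0 ρ b g := Submodule.sub_mem _ (F.map_L0 hv) hv
    rw [← h] at hw
    simp only [mem_piece, one_smul] at hw
    obtain ⟨hw1, hw2⟩ := hw
    simp only [map_add, map_sub, map_smul] at hw1 hw2
    have pa := mem_piece.1 hea
    have pb := mem_piece.1 mb
    have pc := mem_piece.1 mc
    simp only [one_smul, neg_smul] at pa pb pc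
    rw [pa.1, pb.1, pc.1] at hw1
    rw [pa.2, pb.2, pc.2] at hw2
    have e1 : (a • eb - c • eb) + c • ec = 0 := eq_zero_of_two (by
      calc (a • eb - c • eb) + c • ec + ((a • eb - c • eb) + c • ec)
          = (a • (eb - ea) + c • (ec - eb)) - (a • (-eb - ea) + c • (-ec - -eb)) := by
            simp only [smul_sub, smul_neg]; abel
        _ = 0 := by rw [hw1, sub_self])
    have e2 : -(a • ea) + c • ec = 0 := eq_zero_of_two (by
      calc -(a • ea) + c • ec + (-(a • ea) + c • ec)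
          = (a • (eb - ea) + c • (ec - eb)) - (a • (eb - -ea) + c • (-ec - eb)) := by
            simp only [smul_sub, smul_neg]; abel
        _ = 0 := by rw [hw2, sub_self])
    have z1 := zero_of_sum (ρ := ρ) (b := b) (g := g) (va := -(a • ea)) (vb := 0) (vc := c • ec)
      (Submodule.neg_mem _ (Submodule.smul_mem _ _ hea))
      (Submodule.zero_mem _) (Submodule.smul_mem _ _ mc)
      (by rw [add_zero]; exact e2)
    have ha : a = 0 := (smul_eq_zero.1 (neg_eq_zero.1 z1.1)).resolve_right hea0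
    have hc : c = 0 := (smul_eq_zero.1 z1.2.2).resolve_right hec0
    rw [ha, hc, zero_smul, zero_smul, add_zero] at h
    exact sub_eq_zero.1 h.symm

theorem Lines.ext {ea eb ec : E} (L : Lines ρ b g ea eb ec) (H : Hyp ρ b) (F : Four b g) {x y : S}
    (h0 : ∀ v ∈ L0 ρ b g, ρ x v = ρ y v) (ha : ρ x ea = ρ y ea) (hb : ρ x eb = ρ y eb)
    (hc : ρ x ec = ρ y ec) : x = y := by
  refine H.eq_of fun v => ?_
  obtain ⟨v0, h0', va, ha', vb, hb', vc, hc', rfl⟩ := F.decomp (ρ := ρ) v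
  obtain ⟨i, rfl⟩ := L.spa va ha'
  obtain ⟨j, rfl⟩ := L.spb vb hb'
  obtain ⟨k, rfl⟩ := L.spc vc hc'
  simp only [map_add, map_smul, ha, hb, hc, h0 v0 h0']

theorem piece_invariant {x : S} (hx : x * g = g * x)
    (hx' : x * (b * g * b⁻¹) = b * g * b⁻¹ * x) {s t : ZMod 3} {v : E}
    (hv : v ∈ piece ρ b g s t) : ρ x v ∈ piece ρ b g s t :=
  ⟨by rw [← rho_mul, ← hx, rho_mul, hv.1, map_smul],
   by rw [← rho_mul, ← hx', rho_mul, hv.2, map_smul]⟩

theorem sign_of_smul {e : E} (he : e ≠ 0) {x : S} {c : ZMod 3} (h : ρ x e = c • e) :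
    c = 1 ∨ c = -1 := by
  rcases smul_cases c with rfl | rfl | rfl
  · exact absurd (by rw [zero_smul] at h; rw [← rho_inv_apply ρ x e, h, map_zero]) he
  · exact Or.inl rfl
  · exact Or.inr rfl

end CfsgLib.CubicBlock
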