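import Cfsg.Agent.CubicBlock.Ctx
import Cfsg.Agent.Monster.ExtraBasics

/-!
A noncentral involution of the second centre moved by `b` forces an extraspecial group of order
32 acting monomially on four lines.
-/

set_option autoImplicit false
set_option linter.unusedSectionVars false
set_option linter.style.haveILetI false

namespace CfsgLib.CubicBlock

open Subgroup

variable {S : Type*} [Group S] [Finite S] {E : Type*} [AddCommGroup E] [Module (ZMod 3) E]
  [Finite E] {ρ : Representation (ZMod 3) S E} {b g : S} {T : Subgroup S}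

/-- The extraspecial outcome. -/
def Big (ρ : Representation (ZMod 3) S E) (b : S) (T : Subgroup S) : Prop :=
  Nat.card T = 32 ∧ Cfsg.IsExtraspecial 2 T ∧
    (∃ A : Subgroup S, A ≤ T ∧ Cfsg.IsElementaryAbelian 2 A ∧ Nat.card A = 8) ∧ Block ρ b T

/-- The sign attached to a bit. -/
def sgn (i : ZMod 2) : ZMod 3 := if i = 0 then 1 else -1

theorem sgn_add (i j : ZMod 2) : sgn (i + j) = sgn i * sgn j := by revert i j; decide

theorem sgn_sq (i : ZMod 2) : sgn i * sgn i = 1 := by revert i; decide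

theorem sgn_inj {i j : ZMod 2} (h : sgn i = sgn j) : i = j := by revert i j; decide

theorem exists_sgn {c : ZMod 3} (h : c = 1 ∨ c = -1) : ∃ i, sgn i = c := by
  rcases h with rfl | rfl
  · exact ⟨0, rfl⟩
  · exact ⟨1, rfl⟩

theorem two_cases (i : ZMod 2) : i = 0 ∨ i = 1 := by revert i; decide

/-- Labels of the four lines: the signs of `g` and of its conjugate. -/
abbrev Lab := ZMod 2 × ZMod 2

/-- The action of `b` on labels. -/
def rot (χ : Lab) : Lab := (χ.1 + χ.2, χ.1)

theorem rot_rot_rot (χ : Lab) : rot (rot (rot χ)) = χ := by revert χ; decide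

theorem rot_add (χ τ : Lab) : rot (χ + τ) = rot χ + rot τ := by revert χ τ; decide

theorem lab_cases (χ : Lab) : χ = (0, 0) ∨ χ = (0, 1) ∨ χ = (1, 0) ∨ χ = (1, 1) := by
  revert χ; decide

theorem lab_orbit {a : Lab} (ha : a ≠ 0) (x : Lab) :
    x = 0 ∨ x = a ∨ x = rot a ∨ x = rot (rot a) := by
  revert a x; decide

theorem four_key (f : Lab → ZMod 2) (τ χ : Lab)
    (h : f (0, 0) + f (0, 1) + (f (1, 0) + f (1, 1)) = 0) : f χ + f (χ + τ) = f 0 + f τ := by
  revert f τ χ; decide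

theorem sum_rot (f : Lab → ZMod 2) : ∑ χ, f (rot χ) = ∑ χ, f χ :=
  Fintype.sum_bijective rot (Function.bijective_iff_has_inverse.2
    ⟨fun χ => rot (rot χ), fun χ => rot_rot_rot χ, fun χ => rot_rot_rot χ⟩) _ _ fun _ => rfl

/-- The monomial frame: four lines, `T` trivial on a complement. -/
structure Frame (ρ : Representation (ZMod 3) S E) (b g : S) (T : Subgroup S) (z : S)
    (e : Lab → E) : Prop where
  hg : g ∈ T
  nc : ∃ t ∈ T, t * g * t⁻¹ ≠ g
  hz : Cen T z
  z2 : z * z = 1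
  z1 : z ≠ 1
  sq : g * g = 1
  comm : ∀ t ∈ T, t * g * t⁻¹ = g ∨ t * g * t⁻¹ = z * g
  comm' : ∀ t ∈ T, t * (b * g * b⁻¹) * t⁻¹ = b * g * b⁻¹ ∨
    t * (b * g * b⁻¹) * t⁻¹ = z * (b * g * b⁻¹)
  g2 : b * (b * g * b⁻¹) * b⁻¹ = g * (b * g * b⁻¹)
  ne : ∀ χ, e χ ≠ 0
  eg : ∀ χ, ρ g (e χ) = sgn χ.1 • e χ
  eh : ∀ χ, ρ (b * g * b⁻¹) (e χ) = sgn χ.2 • e χ
  ez : ∀ χ, ρ z (e χ) = -e χ
  eb : ∀ χ, ρ b (e χ) = e (rot χ)
  plus : ∀ t ∈ T, ∀ v, ρ z v = v → ρ t v = v
  span : ∀ v, ρ z v = -v → ∃ c : Lab → ZMod 3, v = ∑ χ, c χ • e χ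
  uniq : ∀ v χ, ρ z v = -v → ρ g v = sgn χ.1 • v → ρ (b * g * b⁻¹) v = sgn χ.2 • v →
    ∃ c : ZMod 3, v = c • e χ

theorem frame_exists (C : Ctx ρ b T) (hg : g ∈ second T) (hnc : ¬ Cen T g) (hsq : g * g = 1)
    (hp : g * (b * g * b⁻¹) * (b * (b * g * b⁻¹) * b⁻¹) = 1) :
    ∃ z e, Frame ρ b g T z e := by
  have H := C.hyp
  have hne : g ≠ 1 := fun h => hnc (h ▸ Cen.one T)
  have F := four_mk H.cube hsq hp hne
  obtain ⟨ea, eb, ec, L⟩ := H.lines F
  obtain ⟨⟨ga, gb, gc⟩, ha, hb, hc⟩ := L.act_g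
  have hval : ∀ t ∈ T, (t * g * t⁻¹ * g⁻¹) * (t * g * t⁻¹ * g⁻¹) = 1 := by
    intro t ht
    set c := t * g * t⁻¹ * g⁻¹ with hc
    have hcen : Cen T c := hg.2 t ht
    have h1 : t * g * t⁻¹ = c * g := by rw [hc, inv_mul_cancel_right]
    have h2 : (c * g) * (c * g) = 1 := by
      rw [← h1]
      calc t * g * t⁻¹ * (t * g * t⁻¹) = t * (g * g) * t⁻¹ := by group
        _ = 1 := by rw [hsq, mul_one, mul_inv_cancel]
    calc c * c = c * (c * (g * g)) := by rw [hsq, mul_one]
      _ = c * ((c * g) * g) := by group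
      _ = c * ((g * c) * g) := by rw [hcen.2 g hg.1]
      _ = (c * g) * (c * g) := by group
      _ = 1 := h2
  obtain ⟨t0, ht0, ht0g⟩ : ∃ t ∈ T, t * g * t⁻¹ * g⁻¹ ≠ 1 := by
    by_contra hno
    push Not at hno
    exact hnc ⟨hg.1, fun t ht => (mul_inv_eq_iff_eq_mul.1 (mul_inv_eq_one.1 (hno t ht))).symm⟩
  set z := t0 * g * t0⁻¹ * g⁻¹ with hzdef
  have hz : Cen T z := hg.2 t0 ht0
  have z2 : z * z = 1 := hval t0 ht0
  have comm : ∀ t ∈ T, t * g * t⁻¹ = g ∨ t * g * t⁻¹ = z * g := by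
    intro t ht
    by_cases h : t * g * t⁻¹ * g⁻¹ = 1
    · exact Or.inl (mul_inv_eq_one.1 h)
    · refine Or.inr ?_
      rw [← C.unique_invol (hg.2 t ht) hz (hval t ht) z2 h ht0g, inv_mul_cancel_right]
  have hzb : z * b = b * z := by conv_lhs => rw [← C.fixZ z hz, inv_mul_cancel_right]
  have comm' : ∀ t ∈ T, t * (b * g * b⁻¹) * t⁻¹ = b * g * b⁻¹ ∨
      t * (b * g * b⁻¹) * t⁻¹ = z * (b * g * b⁻¹) := by
    intro t ht
    have h := comm _ (C.norm_inv ht)
    have e : t * (b * g * b⁻¹) * t⁻¹ =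
        b * (b⁻¹ * t * b * g * (b⁻¹ * t * b)⁻¹) * b⁻¹ := by group
    rcases h with h | h <;> rw [e, h]
    · exact Or.inl rfl
    · right
      rw [← mul_assoc b z g, ← hzb]
      group
  have hgT : g ∈ T := hg.1
  have hhT : b * g * b⁻¹ ∈ T := C.norm g hgT
  -- `z` is `-1` on the three lines
  have zline : ρ z ea = -ea ∧ ρ z eb = -eb ∧ ρ z ec = -ec := by
    obtain ⟨sa, sb, sc, ⟨ta, tb, tc⟩, sa2, -⟩ := L.signs (hz.2 g hgT) (hz.2 _ hhT)
    rcases sa2 with rfl | rfl
    · rw [one_smul] at ta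
      have h := C.trivial_plus hz z2 ht0g ta hhT
      rw [ha] at h
      exact absurd (eq_zero_of_eq_neg h.symm) L.ne.1
    · rw [neg_smul, one_smul] at ta
      have h1 : ρ z eb = -eb := by rw [← L.ba, ← rho_mul, hzb, rho_mul, ta, map_neg]
      exact ⟨ta, h1, by rw [← L.bb, ← rho_mul, hzb, rho_mul, h1, map_neg]⟩
  obtain ⟨za, zb, zc⟩ := zline
  have swap : ∀ v, ρ z v = -v → ρ z (ρ t0 v) = -ρ t0 v ∧
      ∀ s : ZMod 3, ρ g v = s • v → ρ g (ρ t0 v) = -(s • ρ t0 v) := by
    intro v hv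
    have h1 : ρ z (ρ t0 v) = -ρ t0 v := by rw [← rho_mul, hz.2 t0 ht0, rho_mul, hv, map_neg]
    refine ⟨h1, fun s hs => ?_⟩
    have e : g * t0 = z * (t0 * g) := by
      have h : z * g = t0 * g * t0⁻¹ := by rw [hzdef, inv_mul_cancel_right]
      calc g * t0 = z * (z * g) * t0 := by rw [← mul_assoc z z g, z2, one_mul]
        _ = z * (t0 * g) := by rw [h]; group
    rw [← rho_mul ρ g t0, e, rho_mul ρ z, rho_mul ρ t0, hs, map_smul, map_smul, h1, smul_neg]
  -- the minus part of `L0`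
  set Q := Submodule.span (ZMod 3) {eb, ec} with hQ
  have hQdim : Module.finrank (ZMod 3) Q ≤ 2 := by
    classical
    have := finrank_span_finset_le_card (R := ZMod 3) ({eb, ec} : Finset E)
    rw [Set.finrank, Finset.coe_insert, Finset.coe_singleton] at this
    exact this.trans Finset.card_le_two
  have negQ : ∀ v, ρ g v = -v → v ∈ Q := by
    intro v hv
    obtain ⟨v0, h0, va, hva, vb, hvb, vc, hvc, rfl⟩ := F.decomp (ρ := ρ) v
    obtain ⟨i, rfl⟩ := L.spa va hva
    obtain ⟨j, rfl⟩ := L.spb vb hvb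
    obtain ⟨k, rfl⟩ := L.spc vc hvc
    have g0 := (mem_piece.1 h0).1
    rw [one_smul] at g0
    simp only [map_add, map_smul, ga, gb, gc, g0, smul_neg] at hv
    have e : v0 + i • ea = 0 := eq_zero_of_two (by
      calc v0 + i • ea + (v0 + i • ea) = (v0 + i • ea + -(j • eb) + -(k • ec)) +
            (v0 + i • ea + j • eb + k • ec) := by abel
        _ = 0 := by rw [hv, neg_add_cancel])
    rw [e, zero_add]
    exact Submodule.mem_span_pair.2 ⟨j, k, rfl⟩
  have posP : ∀ v, ρ g v = v → ∃ v0 ∈ L0 ρ b g, ∃ i : ZMod 3, v = v0 + i • ea := by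
    intro v hv
    obtain ⟨v0, h0, va, hva, vb, hvb, vc, hvc, rfl⟩ := F.decomp (ρ := ρ) v
    obtain ⟨i, rfl⟩ := L.spa va hva
    obtain ⟨j, rfl⟩ := L.spb vb hvb
    obtain ⟨k, rfl⟩ := L.spc vc hvc
    have g0 := (mem_piece.1 h0).1
    rw [one_smul] at g0
    simp only [map_add, map_smul, ga, gb, gc, g0, smul_neg] at hv
    have e : j • eb + k • ec = 0 := eq_zero_of_two (by
      calc j • eb + k • ec + (j • eb + k • ec) = (v0 + i • ea + j • eb + k • ec) -
            (v0 + i • ea + -(j • eb) + -(k • ec)) := by abel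
        _ = 0 := by rw [hv, sub_self])
    exact ⟨v0, h0, i, by rw [add_assoc (v0 + i • ea), e, add_zero]⟩
  obtain ⟨ed, hed, hzd, hed0⟩ : ∃ ed ∈ L0 ρ b g, ρ z ed = -ed ∧ ed ≠ 0 := by
    obtain ⟨zu, gu⟩ := swap eb zb
    obtain ⟨zu', gu'⟩ := swap ec zc
    have hu := gu (-1) (by rw [gb, neg_smul, one_smul])
    have hu' := gu' (-1) (by rw [gc, neg_smul, one_smul])
    simp only [neg_smul, one_smul, neg_neg] at hu hu'
    obtain ⟨v0, h0, i, hi⟩ := posP _ hu
    obtain ⟨w0, hw0, j, hj⟩ := posP _ hu'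
    have hzv : ρ z v0 = -v0 := by
      rw [hi, map_add, map_smul, za, smul_neg, neg_add] at zu
      exact add_right_cancel zu
    have hzw : ρ z w0 = -w0 := by
      rw [hj, map_add, map_smul, za, smul_neg, neg_add] at zu'
      exact add_right_cancel zu'
    by_cases h : v0 = 0
    · refine ⟨w0, hw0, hzw, fun hw => ?_⟩
      rw [h, zero_add] at hi
      rw [hw, zero_add] at hj
      have : ρ t0 (j • eb + (-i) • ec) = 0 := by
        rw [map_add, map_smul, map_smul, hi, hj, smul_smul, smul_smul, ← add_smul,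
          show j * i + -i * j = 0 by ring, zero_smul]
      have h2 : j • eb + (-i) • ec = 0 := by rw [← rho_inv_apply ρ t0 (_ + _), this, map_zero]
      obtain ⟨-, z1, -⟩ := zero_of_sum (Submodule.zero_mem (La ρ b g))
        (Submodule.smul_mem _ j L.mb) (Submodule.smul_mem _ (-i) L.mc) (by rw [zero_add]; exact h2)
      rw [(smul_eq_zero.1 z1).resolve_right L.ne.2.1, zero_smul] at hj
      exact L.ne.2.2 (by rw [← rho_inv_apply ρ t0 ec, hj, map_zero])
    · exact ⟨v0, h0, hzv, h⟩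
  have gd : ρ g ed = ed ∧ ρ (b * g * b⁻¹) ed = ed := by
    simpa using mem_piece.1 hed
  have uniqd : ∀ w ∈ L0 ρ b g, ρ z w = -w → ∃ c : ZMod 3, w = c • ed := by
    intro w hw hzw
    have inQ : ∀ v, ρ z v = -v → ρ g v = v → ρ t0 v ∈ Q := fun v h1 h2 =>
      negQ _ (by have := (swap v h1).2 1 (by rw [one_smul, h2]); rwa [one_smul] at this)
    have hind : ∀ a c : ZMod 3, a • ρ t0 ea + c • ρ t0 ed = 0 → a = 0 ∧ c = 0 := by
      intro a c h
      have h2 : a • ea + c • ed = 0 := by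
        rw [← rho_inv_apply ρ t0 (a • ea + c • ed), map_add (ρ t0), map_smul, map_smul, h, map_zero]
      have h3 := congrArg (ρ (b * g * b⁻¹)) h2
      simp only [map_add, map_smul, ha, gd.2, smul_neg, map_zero] at h3
      have h4 : c • ed = 0 := eq_zero_of_two (by
        calc c • ed + c • ed = (a • ea + c • ed) + (-(a • ea) + c • ed) := by abel
          _ = 0 := by rw [h2, h3, add_zero])
      rw [h4, add_zero] at h2
      exact ⟨(smul_eq_zero.1 h2).resolve_right L.ne.1, (smul_eq_zero.1 h4).resolve_right hed0⟩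
    obtain ⟨a, c, h⟩ := LI_pair hind (inQ ea za ga) (inQ ed hzd gd.1) hQdim
      (inQ w hzw (by simpa using (mem_piece.1 hw).1))
    have h2 : a • ea + c • ed = w := by
      have := congrArg (ρ t0⁻¹) h
      simpa only [map_add, map_smul, rho_inv_apply] using this
    have h3 := congrArg (ρ (b * g * b⁻¹)) h2
    simp only [map_add, map_smul, ha, gd.2, smul_neg] at h3
    rw [show ρ (b * g * b⁻¹) w = w by simpa using (mem_piece.1 hw).2] at h3
    have h4 : a • ea = 0 := eq_zero_of_two (by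
      calc a • ea + a • ea = (a • ea + c • ed) - (-(a • ea) + c • ed) := by abel
        _ = 0 := by rw [h2, h3, sub_self])
    exact ⟨c, by rw [← h2, h4, zero_add]⟩
  let e : Lab → E := fun χ =>
    if χ = (0, 0) then ed else if χ = (0, 1) then ea else if χ = (1, 0) then eb else ec
  have e00 : e (0, 0) = ed := rfl
  have e01 : e (0, 1) = ea := rfl
  have e10 : e (1, 0) = eb := rfl
  have e11 : e (1, 1) = ec := rfl
  have lab := lab_cases
  have s0 : sgn 0 = 1 := rfl
  have s1 : sgn 1 = -1 := rfl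
  refine ⟨z, e, ⟨hgT, ⟨t0, ht0, fun h => ht0g (by rw [hzdef, h, mul_inv_cancel])⟩, hz, z2, ht0g, hsq, comm, comm', F.g2, ?_, ?_, ?_, ?_, ?_,
    fun t ht v hv => C.trivial_plus hz z2 ht0g hv ht, ?_, ?_⟩⟩
  · intro χ
    rcases lab χ with rfl | rfl | rfl | rfl
    exacts [hed0, L.ne.1, L.ne.2.1, L.ne.2.2]
  · intro χ
    rcases lab χ with rfl | rfl | rfl | rfl <;>
      simp only [e00, e01, e10, e11, s0, s1, one_smul, neg_smul]
    exacts [gd.1, ga, gb, gc]
  · intro χ
    rcases lab χ with rfl | rfl | rfl | rfl <;>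
      simp only [e00, e01, e10, e11, s0, s1, one_smul, neg_smul]
    exacts [gd.2, ha, hb, hc]
  · intro χ
    rcases lab χ with rfl | rfl | rfl | rfl
    exacts [hzd, za, zb, zc]
  · intro χ
    rcases lab χ with rfl | rfl | rfl | rfl
    exacts [L.fix ed hed, L.ba, L.bb, L.bc]
  · intro v hv
    obtain ⟨v0, h0, va, hva, vb, hvb, vc, hvc, rfl⟩ := F.decomp (ρ := ρ) v
    obtain ⟨i, rfl⟩ := L.spa va hva
    obtain ⟨j, rfl⟩ := L.spb vb hvb
    obtain ⟨k, rfl⟩ := L.spc vc hvc
    simp only [map_add, map_smul, za, zb, zc, smul_neg, neg_add] at hv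
    have hv0 : ρ z v0 = -v0 := add_right_cancel (add_right_cancel (add_right_cancel hv))
    obtain ⟨l, rfl⟩ := uniqd v0 h0 hv0
    refine ⟨fun χ => if χ = (0, 0) then l else if χ = (0, 1) then i else if χ = (1, 0) then j else k,
      ?_⟩
    rw [Fintype.sum_prod_type]
    simp only [show (Finset.univ : Finset (ZMod 2)) = {0, 1} from rfl,
      Finset.sum_pair (show (0 : ZMod 2) ≠ 1 by decide)]
    show _ = l • ed + i • ea + (j • eb + k • ec)
    abel
  · intro v χ hzv hgv hhv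
    rcases lab χ with rfl | rfl | rfl | rfl <;>
      simp only [s0, s1] at hgv hhv
    · exact uniqd v (mem_piece.2 ⟨hgv, hhv⟩) hzv
    · exact L.spa v (mem_piece.2 ⟨hgv, hhv⟩)
    · exact L.spb v (mem_piece.2 ⟨hgv, hhv⟩)
    · exact L.spc v (mem_piece.2 ⟨hgv, hhv⟩)

namespace Frame

variable {z : S} {e : Lab → E} (R : Frame ρ b g T z e) (C : Ctx ρ b T)
include R C

theorem exists_act {t : S} (ht : t ∈ T) : ∃ τ : Lab, ∃ c : Lab → ZMod 2,
    ∀ χ, ρ t (e χ) = sgn (c χ) • e (χ + τ) := by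
  have tr : ∀ x : S, (t * x * t⁻¹ = x ∨ t * x * t⁻¹ = z * x) → ∃ i : ZMod 2,
      ∀ v, ρ z v = -v → ∀ s : ZMod 2, ρ x v = sgn s • v → ρ x (ρ t v) = sgn (s + i) • ρ t v := by
    intro x hx
    rcases hx with hx | hx
    · refine ⟨0, fun v _ s hs => ?_⟩
      rw [add_zero, ← rho_mul]
      have e1 : x * t = t * x := by conv_lhs => rw [← hx, inv_mul_cancel_right]
      rw [e1, rho_mul, hs, map_smul]
    · refine ⟨1, fun v hv s hs => ?_⟩
      have hzt : ρ z (ρ t v) = -ρ t v := by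
        rw [← rho_mul, R.hz.2 t ht, rho_mul, hv, map_neg]
      have e1 : x * t = z * (t * x) := by
        calc x * t = (z * z) * x * t := by rw [R.z2, one_mul]
          _ = z * (z * x) * t := by group
          _ = z * (t * x) := by rw [← hx]; group
      rw [← rho_mul, e1, rho_mul, rho_mul, hs, map_smul, map_smul, hzt, sgn_add, smul_neg,
        show sgn (1 : ZMod 2) = -1 from rfl, mul_neg, mul_one, neg_smul]
  obtain ⟨i, hi⟩ := tr g (R.comm t ht)
  obtain ⟨j, hj⟩ := tr _ (R.comm' t ht)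
  refine ⟨(i, j), ?_⟩
  have h : ∀ χ, ∃ c : ZMod 2, ρ t (e χ) = sgn c • e (χ + (i, j)) := by
    intro χ
    have hzt : ρ z (ρ t (e χ)) = -ρ t (e χ) := by
      rw [← rho_mul, R.hz.2 t ht, rho_mul, R.ez, map_neg]
    obtain ⟨c, hc⟩ := R.uniq _ (χ + (i, j)) hzt (hi _ (R.ez χ) _ (R.eg χ))
      (hj _ (R.ez χ) _ (R.eh χ))
    rcases smul_cases c with rfl | rfl | rfl
    · exact absurd (by rw [← rho_inv_apply ρ t (e χ), hc, zero_smul, map_zero]) (R.ne χ)
    · exact ⟨0, hc⟩
    · exact ⟨1, hc⟩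
  choose c hc using h
  exact ⟨c, hc⟩

/-- The translation and coefficients of an element of `T`. -/
theorem uniq_act {τ τ' : Lab} {c c' : ZMod 2} {χ : Lab}
    (h : sgn c • e (χ + τ) = sgn c' • e (χ + τ')) : τ = τ' ∧ c = c' := by
  have key : ∀ i j : ZMod 2, sgn i • e (χ + τ') = sgn j • e (χ + τ') → i = j := by
    intro i j hij
    rw [← sub_eq_zero, ← sub_smul, smul_eq_zero, sub_eq_zero] at hij
    exact sgn_inj (hij.resolve_right (R.ne _))
  have h0 : e (χ + τ) = (sgn c * sgn c') • e (χ + τ') := by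
    have := congrArg (sgn c • ·) h
    simpa only [smul_smul, sgn_sq, one_smul] using this
  have hz0 : sgn c * sgn c' ≠ 0 := by
    intro hc
    rw [hc, zero_smul] at h0
    exact R.ne _ h0
  have cmp : ∀ {x : S} {i j : ZMod 2}, ρ x (e (χ + τ)) = sgn i • e (χ + τ) →
      ρ x (e (χ + τ')) = sgn j • e (χ + τ') → i = j := by
    intro x i j hi hj
    rw [h0, map_smul, hj, smul_smul, smul_smul, ← sub_eq_zero, ← sub_smul, smul_eq_zero] at hi
    have h2 := hi.resolve_right (R.ne _)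
    rw [mul_comm (sgn i), ← mul_sub, mul_eq_zero] at h2
    exact (sgn_inj (sub_eq_zero.1 (h2.resolve_left hz0))).symm
  have h1 : (χ + τ).1 = (χ + τ').1 := cmp (R.eg _) (R.eg _)
  have h2 : (χ + τ).2 = (χ + τ').2 := cmp (R.eh _) (R.eh _)
  have hτ : τ = τ' := add_left_cancel (Prod.ext h1 h2)
  subst hτ
  exact ⟨rfl, key c c' h⟩

/-- An element of `T` is determined by its action on the four lines. -/
theorem ext' {x y : S} (hx : x ∈ T) (hy : y ∈ T) (h : ∀ χ, ρ x (e χ) = ρ y (e χ)) : x = y := by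
  refine C.hyp.eq_of fun v => ?_
  have e1 : v = -(v + ρ z v) + -(v - ρ z v) := by
    calc v = v + -(v + v + v) := by rw [three, neg_zero, add_zero]
      _ = _ := by abel
  rw [e1, map_add (ρ x), map_add (ρ y), map_neg (ρ x), map_neg (ρ y), map_neg (ρ x), map_neg (ρ y)]
  have h1 : ρ z (v + ρ z v) = v + ρ z v := by
    rw [map_add, ← rho_mul, R.z2, rho_one, add_comm]
  obtain ⟨c, hc⟩ := R.span (v - ρ z v) (by rw [map_sub, ← rho_mul, R.z2, rho_one]; abel)
  rw [R.plus x hx _ h1, R.plus y hy _ h1, hc]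
  simp only [map_sum, map_smul, h]

theorem big : Big ρ b T := by
  classical
  have H := C.hyp
  choose τ c hc using fun t : T => R.exists_act C t.2
  have hmul : ∀ x y : T, τ (x * y) = τ y + τ x ∧
      ∀ χ, c (x * y) χ = c y χ + c x (χ + τ y) := by
    intro x y
    have key : ∀ χ, τ (x * y) = τ y + τ x ∧ c (x * y) χ = c y χ + c x (χ + τ y) := fun χ => by
      refine R.uniq_act C (χ := χ) ?_
      rw [← hc, Subgroup.coe_mul, rho_mul, hc, map_smul, hc, smul_smul, ← sgn_add, add_assoc]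
    exact ⟨(key 0).1, fun χ => (key χ).2⟩
  let τh : T →* Multiplicative Lab := MonoidHom.mk' (fun t => Multiplicative.ofAdd (τ t))
    fun x y => by rw [(hmul x y).1, add_comm]; rfl
  have hτh : ∀ t : T, Multiplicative.toAdd (τh t) = τ t := fun t => rfl
  let par : T →* Multiplicative (ZMod 2) := MonoidHom.mk'
    (fun t => Multiplicative.ofAdd (∑ χ, c t χ)) fun x y => by
      apply Multiplicative.toAdd.injective
      show ∑ χ, c (x * y) χ = ∑ χ, c x χ + ∑ χ, c y χ
      simp only [(hmul x y).2, Finset.sum_add_distrib]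
      rw [Fintype.sum_equiv (Equiv.addRight (τ y)) (fun χ => c x (χ + τ y)) (c x) fun χ => rfl,
        add_comm]
  -- conjugation by `b`
  have hbinv : ∀ χ, ρ b⁻¹ (e (rot χ)) = e χ := fun χ => by rw [← R.eb, rho_inv_apply]
  have hconj : ∀ (t : T) (h : b * (t : S) * b⁻¹ ∈ T), τ ⟨_, h⟩ = rot (τ t) ∧
      ∀ χ, c ⟨_, h⟩ (rot χ) = c t χ := by
    intro t h
    have key : ∀ χ, τ ⟨_, h⟩ = rot (τ t) ∧ c ⟨_, h⟩ (rot χ) = c t χ := fun χ => by
      refine R.uniq_act C (χ := rot χ) ?_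
      rw [← hc, rho_mul, rho_mul, hbinv, hc, map_smul, R.eb, rot_add]
    exact ⟨(key 0).1, fun χ => (key χ).2⟩
  have hpar1 : ∀ (t : T) (h : b * (t : S) * b⁻¹ ∈ T), par ⟨_, h⟩ = par t := by
    intro t h
    show Multiplicative.ofAdd _ = Multiplicative.ofAdd _
    rw [← sum_rot, Finset.sum_congr rfl fun χ _ => (hconj t h).2 χ]
  have hpar : ∀ t : T, par t = 1 := by
    have h : ⁅T, zpowers b⁆ ≤ par.ker.map T.subtype := by
      rw [commutator_le]
      intro t ht s hs
      obtain ⟨u, hu, hupar⟩ : ∃ u : T, (u : S) = s * t⁻¹ * s⁻¹ ∧ par u = (par ⟨t, ht⟩)⁻¹ := by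
        rcases H.b_cases hs with rfl | rfl | rfl
        · exact ⟨(⟨t, ht⟩ : T)⁻¹, by simp, map_inv _ _⟩
        · refine ⟨⟨s * t⁻¹ * s⁻¹, C.norm _ (inv_mem ht)⟩, rfl, ?_⟩
          rw [← map_inv]
          exact hpar1 (⟨t, ht⟩ : T)⁻¹ (C.norm _ (inv_mem ht))
        · refine ⟨⟨b * (b * t⁻¹ * b⁻¹) * b⁻¹, C.norm _ (C.norm _ (inv_mem ht))⟩, by
            simp [mul_assoc], ?_⟩
          have h1 := hpar1 ⟨b * t⁻¹ * b⁻¹, C.norm _ (inv_mem ht)⟩ (C.norm _ (C.norm _ (inv_mem ht)))
          rw [h1, ← map_inv]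
          exact hpar1 (⟨t, ht⟩ : T)⁻¹ (C.norm _ (inv_mem ht))
      refine ⟨⟨t, ht⟩ * u, ?_, ?_⟩
      · show _ ∈ par.ker
        rw [MonoidHom.mem_ker, map_mul, hupar, mul_inv_cancel]
      · rw [map_mul, Subgroup.coe_subtype, hu, commutatorElement_def]
        group
    intro t
    obtain ⟨u, hu, hue⟩ := h (C.gen.symm ▸ t.2 : (t : S) ∈ ⁅T, zpowers b⁆)
    rw [← Subtype.ext (a1 := u) (a2 := t) hue]
    exact hu
  have hsum : ∀ t : T, ∑ χ, c t χ = 0 := fun t => Multiplicative.ofAdd.injective (hpar t)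
  -- the translations cover everything
  have hgT := R.hg
  obtain ⟨hhT, hzT⟩ := And.intro (C.norm g hgT) R.hz.1
  have actg : ∀ χ, c ⟨g, hgT⟩ χ = χ.1 ∧ τ ⟨g, hgT⟩ = 0 := fun χ =>
    (R.uniq_act C (χ := χ) (τ' := 0) (by rw [← hc, add_zero]; exact R.eg χ)).symm
  have acth : ∀ χ, c ⟨_, hhT⟩ χ = χ.2 ∧ τ ⟨_, hhT⟩ = 0 := fun χ =>
    (R.uniq_act C (χ := χ) (τ' := 0) (by rw [← hc, add_zero]; exact R.eh χ)).symm
  have actz : ∀ χ, c ⟨z, hzT⟩ χ = 1 ∧ τ ⟨z, hzT⟩ = 0 := fun χ =>
    (R.uniq_act C (χ := χ) (τ' := 0) (by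
      rw [← hc, add_zero, show sgn 1 = -1 from rfl, neg_smul, one_smul]; exact R.ez χ)).symm
  have hcomm0 : ∀ x y : T, τ x = 0 → τ y = 0 → x * y = y * x := by
    intro x y hx hy
    refine Subtype.ext (R.ext' C (x * y).2 (y * x).2 fun χ => ?_)
    rw [Subgroup.coe_mul, Subgroup.coe_mul, rho_mul, rho_mul, hc, map_smul, hc, hc, map_smul, hc,
      hx, hy, smul_smul, smul_smul, mul_comm]
    simp only [add_zero]
  have hnotcen : ∃ t : T, τ t ≠ 0 := by
    by_contra hno
    push Not at hno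
    obtain ⟨t, ht, htg⟩ := R.nc
    refine htg ?_
    have := congrArg Subtype.val (hcomm0 ⟨t, ht⟩ ⟨g, hgT⟩ (hno _) (hno _))
    simp only [Subgroup.coe_mul] at this
    rw [this, mul_inv_cancel_right]
  have hsurj : Function.Surjective τh := by
    obtain ⟨t, ht⟩ := hnotcen
    have h1 := (hconj t (C.norm _ t.2)).1
    have h2 := (hconj ⟨_, C.norm _ t.2⟩ (C.norm _ (C.norm _ t.2))).1
    rw [h1] at h2
    intro x
    rcases lab_orbit ht (Multiplicative.toAdd x) with hx | hx | hx | hx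
    · exact ⟨1, by rw [map_one]; exact Multiplicative.toAdd.injective (by rw [hx]; rfl)⟩
    · exact ⟨t, Multiplicative.toAdd.injective (by rw [hτh, hx])⟩
    · exact ⟨_, Multiplicative.toAdd.injective (by rw [hτh, hx, ← h1])⟩
    · exact ⟨_, Multiplicative.toAdd.injective (by rw [hτh, hx, ← h2])⟩
  -- the kernel
  let ψ : τh.ker →* Multiplicative (ZMod 2 × ZMod 2 × ZMod 2) := MonoidHom.mk'
    (fun t => Multiplicative.ofAdd (c t.1 (0, 0), c t.1 (0, 1), c t.1 (1, 0))) fun x y => by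
      have hy : τ y.1 = 0 := congrArg Multiplicative.toAdd y.2
      apply Multiplicative.toAdd.injective
      show (c (x.1 * y.1) (0, 0), c (x.1 * y.1) (0, 1), c (x.1 * y.1) (1, 0)) = _
      simp only [(hmul x.1 y.1).2, hy, toAdd_mul, toAdd_ofAdd, Prod.mk_add_mk, add_zero]
      simp only [add_comm (c y.1 _)]
  have four : ∀ f : Lab → ZMod 2, ∑ χ, f χ = f (0, 0) + f (0, 1) + (f (1, 0) + f (1, 1)) := by
    intro f
    rw [Fintype.sum_prod_type]
    simp [show (Finset.univ : Finset (ZMod 2)) = {0, 1} from rfl]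
  have ψinj : Function.Injective ψ := by
    intro x y h
    have h' := congrArg Multiplicative.toAdd h
    simp only [ψ, MonoidHom.mk'_apply, toAdd_ofAdd, Prod.mk.injEq] at h'
    obtain ⟨h0, h1, h2⟩ := h'
    have h3 : c x.1 (1, 1) = c y.1 (1, 1) := by
      have hx := hsum x.1
      have hy := hsum y.1
      rw [four, h0, h1, h2] at hx
      rw [four] at hy
      exact add_left_cancel (add_left_cancel (hx.trans hy.symm))
    refine Subtype.ext (Subtype.ext (R.ext' C x.1.2 y.1.2 fun χ => ?_))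
    have hx : τ x.1 = 0 := congrArg Multiplicative.toAdd x.2
    have hy : τ y.1 = 0 := congrArg Multiplicative.toAdd y.2
    have lab := lab_cases χ
    rw [hc, hc, hx, hy]
    rcases lab with rfl | rfl | rfl | rfl
    exacts [by rw [h0], by rw [h1], by rw [h2], by rw [h3]]
  let kg : τh.ker := ⟨⟨g, hgT⟩, congrArg Multiplicative.ofAdd (actg 0).2⟩
  let kh : τh.ker := ⟨⟨_, hhT⟩, congrArg Multiplicative.ofAdd (acth 0).2⟩
  let kz : τh.ker := ⟨⟨z, hzT⟩, congrArg Multiplicative.ofAdd (actz 0).2⟩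
  have ψsurj : Function.Surjective ψ := by
    intro x
    obtain ⟨a, a', a''⟩ := Multiplicative.toAdd x |>.1, (Multiplicative.toAdd x).2.1,
      (Multiplicative.toAdd x).2.2
    refine ⟨(if (Multiplicative.toAdd x).1 = 0 then 1 else kz) *
      (if (Multiplicative.toAdd x).1 + (Multiplicative.toAdd x).2.1 = 0 then 1 else kh) *
      (if (Multiplicative.toAdd x).1 + (Multiplicative.toAdd x).2.2 = 0 then 1 else kg), ?_⟩
    have hkz : ψ kz = Multiplicative.ofAdd (1, 1, 1) := by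
      show Multiplicative.ofAdd _ = _
      rw [(actz (0, 0)).1, (actz (0, 1)).1, (actz (1, 0)).1]
    have hkh : ψ kh = Multiplicative.ofAdd (0, 1, 0) := by
      show Multiplicative.ofAdd _ = _
      rw [(acth (0, 0)).1, (acth (0, 1)).1, (acth (1, 0)).1]
    have hkg : ψ kg = Multiplicative.ofAdd (0, 0, 1) := by
      show Multiplicative.ofAdd _ = _
      rw [(actg (0, 0)).1, (actg (0, 1)).1, (actg (1, 0)).1]
    rw [map_mul, map_mul, apply_ite ψ, apply_ite ψ, apply_ite ψ, map_one, hkz, hkh, hkg]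
    clear * -
    revert x
    decide
  have hker : Nat.card τh.ker = 8 := by
    rw [Nat.card_congr (Equiv.ofBijective ψ ⟨ψinj, ψsurj⟩)]
    simp [Nat.card_eq_fintype_card]
  have hcard : Nat.card T = 32 := by
    rw [Subgroup.card_eq_card_quotient_mul_card_subgroup τh.ker, hker,
      Nat.card_congr (QuotientGroup.quotientKerEquivOfSurjective τh hsurj).toEquiv]
    simp [Nat.card_eq_fintype_card]
  -- squares
  have scal : ∀ x : T, τ x = 0 → (∀ χ, c x χ = c x 0) → x = 1 ∨ x = ⟨z, hzT⟩ := by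
    intro x hx hconst
    rcases two_cases (c x 0) with h | h
    · left
      refine Subtype.ext (R.ext' C x.2 (one_mem T) fun χ => ?_)
      rw [hc, hx, hconst, h, add_zero, show sgn 0 = 1 from rfl, one_smul, Subgroup.coe_one, rho_one]
    · right
      refine Subtype.ext (R.ext' C x.2 hzT fun χ => ?_)
      rw [hc, hx, hconst, h, add_zero, R.ez, show sgn 1 = -1 from rfl, neg_smul, one_smul]
  have hzc : (⟨z, hzT⟩ : T) ∈ center T :=
    mem_center_iff.2 fun t => Subtype.ext (R.hz.2 t t.2).symm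
  have hsq : ∀ x : T, x * x ∈ center T := by
    intro x
    have h0 : τ (x * x) = 0 := by rw [(hmul x x).1]; exact ZModModule.add_self _
    have hconst : ∀ χ, c (x * x) χ = c (x * x) 0 := by
      intro χ
      rw [(hmul x x).2, (hmul x x).2, zero_add]
      have hs := hsum x
      rw [four] at hs
      exact four_key _ _ _ hs
    rcases scal _ h0 hconst with h | h <;> rw [h]
    · exact one_mem _
    · exact hzc
  have hcenter : center T = zpowers (⟨z, hzT⟩ : T) := by
    refine le_antisymm (fun x hx => ?_) (zpowers_le.2 hzc)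
    have h1 := mem_center_iff.1 hx
    have hx0 : τ x = 0 := by
      have hg' := h1 ⟨g, hgT⟩
      have hh' := h1 ⟨_, hhT⟩
      have key : ∀ (k : T), τ k = 0 → k * x = x * k → ∀ χ, c k (χ + τ x) = c k χ := by
        intro k hk hkx χ
        have e1 := (hmul k x).2 χ
        have e2 := (hmul x k).2 χ
        rw [hkx, e2, hk, add_zero, add_comm] at e1
        exact (add_left_cancel e1).symm
      have a := key _ (actg 0).2 hg' 0
      have a' := key _ (acth 0).2 hh' 0
      rw [(actg _).1, (actg _).1, zero_add] at a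
      rw [(acth _).1, (acth _).1, zero_add] at a'
      exact Prod.ext a a'
    have hconst : ∀ χ, c x χ = c x 0 := by
      intro χ
      obtain ⟨t, ht⟩ := hsurj (Multiplicative.ofAdd χ)
      have ht' : τ t = χ := congrArg Multiplicative.toAdd ht
      have e1 := (hmul x t).2 0
      have e2 := (hmul t x).2 0
      rw [← h1 t, e2, hx0, add_zero, zero_add, ht', add_comm] at e1
      exact (add_left_cancel e1).symm
    rcases scal x hx0 hconst with h | h <;> rw [h]
    · exact one_mem _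
    · exact mem_zpowers _
  have hz2' : orderOf (⟨z, hzT⟩ : T) = 2 := by
    refine orderOf_eq_prime ?_ fun h => R.z1 (congrArg Subtype.val h)
    exact Subtype.ext (by rw [pow_two]; exact R.z2)
  refine ⟨hcard, CfsgLib.Monster.isExtraspecial_of C.two (by rw [hcenter, Nat.card_zpowers, hz2'])
    ?_ hsq ?_, ⟨τh.ker.map T.subtype, ?_, ⟨⟨⟨fun x y => Subtype.ext ?_⟩⟩, ?_⟩, ?_⟩, ?_⟩
  · intro a a'
    have h : a * a' * a⁻¹ * a'⁻¹ = (a * a') * (a * a') * ((a * a)⁻¹ * (a' * a')⁻¹) := by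
      have h1 := mem_center_iff.1 (inv_mem (hsq a)) a'⁻¹
      calc a * a' * a⁻¹ * a'⁻¹ = a * a' * a * a' * (a'⁻¹ * (a * a)⁻¹ * a'⁻¹) := by group
        _ = a * a' * a * a' * ((a * a)⁻¹ * a'⁻¹ * a'⁻¹) := by rw [h1]
        _ = _ := by group
    rw [h]
    exact mul_mem (hsq _) (mul_mem (inv_mem (hsq a)) (inv_mem (hsq a')))
  · obtain ⟨t, ht⟩ := hsurj (Multiplicative.ofAdd (1, 0))
    refine ⟨t, ⟨g, hgT⟩, fun h => ?_⟩
    have ht' : τ t = (1, 0) := congrArg Multiplicative.toAdd ht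
    have e1 := (hmul t ⟨g, hgT⟩).2 0
    have e2 := (hmul ⟨g, hgT⟩ t).2 0
    rw [h, e2, (actg 0).2, add_zero, zero_add, ht', (actg _).1, (actg _).1, add_comm] at e1
    exact absurd (add_right_cancel e1) (by decide)
  · exact map_subtype_le _
  · obtain ⟨_, x', hx, rfl⟩ := x
    obtain ⟨_, y', hy, rfl⟩ := y
    have := congrArg Subtype.val (hcomm0 x' y' (congrArg Multiplicative.toAdd hx)
      (congrArg Multiplicative.toAdd hy))
    simpa using this
  · rintro _ ⟨x, hx, rfl⟩
    rw [← map_pow, show x ^ 2 = 1 from ?_, map_one]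
    have h : (⟨x, hx⟩ : τh.ker) ^ 2 = 1 := ψinj (by
      rw [map_pow, map_one, pow_two]
      exact Multiplicative.toAdd.injective (ZModModule.add_self _))
    exact congrArg Subtype.val h
  · rw [Subgroup.card_map_of_injective T.subtype_injective, hker]
  · -- the block
    let F0 : Submodule (ZMod 3) E := LinearMap.ker (ρ z + 1)
    let F1 : Submodule (ZMod 3) E := LinearMap.ker (ρ z - 1)
    have m0 : ∀ {v}, v ∈ F0 ↔ ρ z v = -v := fun {v} => by
      rw [LinearMap.mem_ker, eq_neg_iff_add_eq_zero]; rfl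
    have m1 : ∀ {v}, v ∈ F1 ↔ ρ z v = v := fun {v} => by
      rw [LinearMap.mem_ker, ← sub_eq_zero (a := ρ z v)]; rfl
    have hzb : z * b = b * z := by conv_lhs => rw [← C.fixZ z R.hz, inv_mul_cancel_right]
    refine block_of (F₀ := F0) (F₁ := F1) H ?_ ?_ ?_ (fun r hr v hv => R.plus r hr v (m1.1 hv))
      (fun r hr v hv => m0.2 ?_) (fun v hv => m0.2 ?_) ?_
    · rw [Submodule.eq_bot_iff]
      rintro v ⟨h0, h1⟩
      exact eq_zero_of_eq_neg ((m1.1 h1).symm.trans (m0.1 h0))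
    · rw [Submodule.eq_top_iff']
      intro v
      have e1 : v = -(v - ρ z v) + -(v + ρ z v) := by
        calc v = v + -(v + v + v) := by rw [three, neg_zero, add_zero]
          _ = _ := by abel
      rw [e1]
      refine Submodule.add_mem_sup (F0.neg_mem (m0.2 ?_)) (F1.neg_mem (m1.2 ?_))
      · rw [map_sub, ← rho_mul, R.z2, rho_one]; abel
      · rw [map_add, ← rho_mul, R.z2, rho_one, add_comm]
    · intro v hv
      rcases H.one_side R.z2 hzb with h | h
      · exact h v (m1.1 hv)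
      · refine absurd ?_ (R.ne (rot (0, 1)))
        have h1 := (h _ (R.ez (0, 1))).symm.trans (R.eb (0, 1))
        have h2 := R.eg (0, 1)
        rw [h1, R.eg, ← sub_eq_zero, ← sub_smul, smul_eq_zero] at h2
        exact absurd (h2.resolve_right (R.ne _)) (by decide)
    · rw [← rho_mul, R.hz.2 r hr, rho_mul, m0.1 hv, map_neg]
    · rw [← rho_mul, hzb, rho_mul, m0.1 hv, map_neg]
    · intro N hN hTN _
      by_cases hbot : N = ⊥
      · exact Or.inl hbot
      refine Or.inr (le_antisymm hN ?_)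
      obtain ⟨v, hv, hv0⟩ := Submodule.exists_mem_ne_zero_of_ne_bot hbot
      obtain ⟨k, rfl⟩ := R.span v (m0.1 (hN hv))
      -- project with the four group
      have proj : ∀ w ∈ N, ∀ x ∈ T, ∀ s : ZMod 3, -(w + s • ρ x w) ∈ N := fun w hw x hx s =>
        N.neg_mem (N.add_mem hw (N.smul_mem s (hTN x hx w hw)))
      have hsingle : ∀ χ, k χ • e χ ∈ N := by
        intro χ
        have h := proj _ (proj _ hv g hgT (sgn χ.1)) _ hhT (sgn χ.2)
        convert h using 1
        simp only [map_neg, map_add, map_smul, map_sum, R.eg, R.eh, smul_smul, Finset.smul_sum,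
          Fintype.sum_prod_type, show (Finset.univ : Finset (ZMod 2)) = {0, 1} from rfl,
          Finset.sum_pair (show (0 : ZMod 2) ≠ 1 by decide)]
        obtain ⟨i, j⟩ := χ
        have s0 : sgn 0 = 1 := rfl
        have s1 : sgn 1 = -1 := rfl
        have three' : ∀ x : E, -x + -x = x := fun x => by
          calc -x + -x = x - (x + x + x) := by abel
            _ = x := by rw [three, sub_zero]
        rcases two_cases i with rfl | rfl <;> rcases two_cases j with rfl | rfl <;>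
          simp only [s0, s1, one_mul, mul_one, neg_mul, mul_neg, neg_neg, one_smul, neg_smul,
            smul_neg, neg_add] <;>
          (conv_lhs => rw [← three' (k _ • e _), ← three' (- (k _ • e _))]) <;> abel
      obtain ⟨χ, hχ⟩ : ∃ χ, k χ ≠ 0 := by
        by_contra hno
        push Not at hno
        exact hv0 (by simp [hno])
      have heχ : e χ ∈ N := by simpa [smul_smul, hχ] using N.smul_mem (k χ)⁻¹ (hsingle χ)
      have hall : ∀ χ', e χ' ∈ N := by
        intro χ'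
        obtain ⟨t, ht⟩ := hsurj (Multiplicative.ofAdd (χ' - χ))
        have ht' : τ t = χ' - χ := congrArg Multiplicative.toAdd ht
        have h := hTN t t.2 _ heχ
        rw [hc, ht', add_sub_cancel] at h
        have h2 := N.smul_mem (sgn (c t χ)) h
        rwa [smul_smul, sgn_sq, one_smul] at h2
      intro w hw
      obtain ⟨l, rfl⟩ := R.span w (m0.1 hw)
      exact N.sum_mem fun χ _ => N.smul_mem _ (hall χ)

end Frame

end CfsgLib.CubicBlock
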