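import Cfsg.Agent.CubicBlock.Four

/-!
A 2-group `T = ⁅T, ⟨b⟩⁆` whose centre is fixed by `b`: there is only one central involution, and
there are elements of the second centre moved by `b`.
-/

set_option autoImplicit false
set_option linter.unusedSectionVars false
set_option linter.style.haveILetI false

namespace CfsgLib.CubicBlock

open Subgroup

variable {S : Type*} [Group S] [Finite S] {E : Type*} [AddCommGroup E] [Module (ZMod 3) E]
  [Finite E] {ρ : Representation (ZMod 3) S E} {b : S} {T : Subgroup S}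

/-- Central elements of `T`. -/
def Cen (T : Subgroup S) (z : S) : Prop := z ∈ T ∧ ∀ t ∈ T, z * t = t * z

/-- The standing hypotheses. -/
structure Ctx (ρ : Representation (ZMod 3) S E) (b : S) (T : Subgroup S) : Prop where
  hyp : Hyp ρ b
  two : IsPGroup 2 T
  norm : ∀ t ∈ T, b * t * b⁻¹ ∈ T
  gen : ⁅T, zpowers b⁆ = T
  fixZ : ∀ z, Cen T z → b * z * b⁻¹ = z

theorem Cen.mul {z w : S} (hz : Cen T z) (hw : Cen T w) : Cen T (z * w) :=
  ⟨mul_mem hz.1 hw.1, fun t ht => by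
    rw [mul_assoc, hw.2 t ht, ← mul_assoc, hz.2 t ht, mul_assoc]⟩

theorem Cen.inv {z : S} (hz : Cen T z) : Cen T z⁻¹ :=
  ⟨inv_mem hz.1, fun t ht => (Commute.inv_left (show Commute z t from hz.2 t ht)).eq⟩

theorem Cen.one (T : Subgroup S) : Cen T 1 := ⟨one_mem T, fun t _ => by simp⟩

theorem Cen.conj_eq {z : S} (hz : Cen T z) {t : S} (ht : t ∈ T) : t * z * t⁻¹ = z := by
  rw [← hz.2 t ht, mul_inv_cancel_right]

theorem eq_one_of_pow_three (hT : IsPGroup 2 T) {w : S} (hw : w ∈ T) (h3 : w * w * w = 1) :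
    w = 1 := by
  obtain ⟨k, hk⟩ := hT ⟨w, hw⟩
  have h2 : w ^ 2 ^ k = 1 := congrArg Subtype.val hk
  have h3' : w ^ 3 = 1 := by rw [pow_three', h3]
  have hd := Nat.dvd_gcd (orderOf_dvd_of_pow_eq_one h2) (orderOf_dvd_of_pow_eq_one h3')
  rw [Nat.Coprime.gcd_eq_one (Nat.Coprime.pow_left k (by norm_num))] at hd
  exact orderOf_eq_one_iff.1 (Nat.dvd_one.1 hd)

/-- If `f⁻¹ f^b` is a fixed element of a 2-group, it is trivial. -/
theorem fixed_of_fixed (H : Hyp ρ b) (hT : IsPGroup 2 T) {f w : S} (hw : w ∈ T)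
    (he : f⁻¹ * (b * f * b⁻¹) = w) (hfix : b * w * b⁻¹ = w) : b * f * b⁻¹ = f := by
  have h := telescope H.cube f
  rw [he, hfix, hfix] at h
  rw [eq_one_of_pow_three hT hw h] at he
  exact (inv_mul_eq_one.1 he).symm

namespace Ctx

variable (C : Ctx ρ b T)
include C

theorem norm_inv {t : S} (ht : t ∈ T) : b⁻¹ * t * b ∈ T := by
  have h := conj_cube C.hyp.cube (b⁻¹ * t * b)
  have e1 : b * (b⁻¹ * t * b) * b⁻¹ = t := by group
  rw [e1] at h
  have e : b⁻¹ * t * b = b * (b * t * b⁻¹) * b⁻¹ := h.symm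
  rw [e]
  exact C.norm _ (C.norm t ht)

theorem le_of_fix {W : Set E} (hW : ∀ t ∈ T, ∀ v ∈ W, ρ t v ∈ W) (hb : ∀ v ∈ W, ρ b v = v) :
    T ≤ fixer ρ W := fun _ ht => commutator_le_fixer hW hb (C.gen.symm ▸ ht)

/-- `T` is trivial on the fixed space of a central involution. -/
theorem trivial_plus {z : S} (hz : Cen T z) (hz2 : z * z = 1) (hz1 : z ≠ 1) {v : E}
    (hv : ρ z v = v) {t : S} (ht : t ∈ T) : ρ t v = v := by
  have hzb : z * b = b * z := by
    conv_lhs => rw [← C.fixZ z hz, inv_mul_cancel_right]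
  rcases C.hyp.one_side hz2 hzb with h | h
  · refine C.le_of_fix (W := {v | ρ z v = v}) (fun s hs w hw => ?_) h ht v hv
    show ρ z (ρ s w) = ρ s w
    rw [← rho_mul, hz.2 s hs, rho_mul, show ρ z w = w from hw]
  · refine absurd (C.hyp.eq_one fun w => ?_) hz1
    have hm : ρ z (w - ρ z w) = -(w - ρ z w) := by
      rw [map_sub, ← rho_mul, hz2, rho_one]; abel
    have hf := C.le_of_fix (W := {v | ρ z v = -v}) (fun s hs u hu => by
      show ρ z (ρ s u) = -ρ s u
      rw [← rho_mul, hz.2 s hs, rho_mul, show ρ z u = -u from hu, map_neg]) h hz.1 _ hm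
    rw [hm] at hf
    exact (sub_eq_zero.1 (eq_zero_of_eq_neg hf.symm)).symm

/-- There is at most one central involution. -/
theorem unique_invol {z w : S} (hz : Cen T z) (hw : Cen T w) (hz2 : z * z = 1) (hw2 : w * w = 1)
    (hz1 : z ≠ 1) (hw1 : w ≠ 1) : z = w := by
  by_contra hne
  have hu2 : (z * w) * (z * w) = 1 := by
    calc (z * w) * (z * w) = z * (w * z) * w := by group
      _ = z * (z * w) * w := by rw [hw.2 z hz.1]
      _ = (z * z) * (w * w) := by group
      _ = 1 := by rw [hz2, hw2, mul_one]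
  have hu1 : z * w ≠ 1 := fun e =>
    hne ((eq_inv_of_mul_eq_one_left e).trans (inv_eq_of_mul_eq_one_left hw2))
  refine hz1 (C.hyp.eq_one fun v => ?_)
  set m := v - ρ z v with hm
  have hzm : ρ z m = -m := by rw [hm, map_sub, ← rho_mul, hz2, rho_one]; abel
  have h1 : ρ z (m + ρ w m) = -(m + ρ w m) := by
    rw [map_add, ← rho_mul, ← hw.2 z hz.1, rho_mul, hzm, map_neg]; abel
  have h2 : m + ρ w m = 0 := by
    have h3 := C.trivial_plus hw hw2 hw1 (v := m + ρ w m)
      (by rw [map_add, ← rho_mul, hw2, rho_one, add_comm]) hz.1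
    rw [h1] at h3
    exact eq_zero_of_eq_neg h3.symm
  have hwm : ρ w m = -m := (neg_eq_of_add_eq_zero_right h2).symm
  have h4 := C.trivial_plus (hz.mul hw) hu2 hu1 (v := m)
    (by rw [rho_mul, hwm, map_neg, hzm, neg_neg]) hz.1
  rw [hzm] at h4
  exact (sub_eq_zero.1 (eq_zero_of_eq_neg h4.symm)).symm

end Ctx

/-- The second centre. -/
def second (T : Subgroup S) : Subgroup S where
  carrier := {x | x ∈ T ∧ ∀ t ∈ T, Cen T (t * x * t⁻¹ * x⁻¹)}
  one_mem' := ⟨one_mem T, fun t _ => by simpa using Cen.one T⟩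
  mul_mem' := fun {x y} hx hy => ⟨mul_mem hx.1 hy.1, fun t ht => by
    have e : t * (x * y) * t⁻¹ * (x * y)⁻¹ =
        (t * x * t⁻¹ * x⁻¹) * (x * (t * y * t⁻¹ * y⁻¹) * x⁻¹) := by group
    rw [e, (hy.2 t ht).conj_eq hx.1]
    exact (hx.2 t ht).mul (hy.2 t ht)⟩
  inv_mem' := fun {x} hx => ⟨inv_mem hx.1, fun t ht => by
    have e : t * x⁻¹ * t⁻¹ * (x⁻¹)⁻¹ = x⁻¹ * (t * x * t⁻¹ * x⁻¹)⁻¹ * x := by group
    have := (hx.2 t ht).inv.conj_eq (inv_mem hx.1)
    rw [inv_inv] at this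
    rw [e, this]
    exact (hx.2 t ht).inv⟩

theorem mem_second {x : S} : x ∈ second T ↔ x ∈ T ∧ ∀ t ∈ T, Cen T (t * x * t⁻¹ * x⁻¹) := Iff.rfl

theorem exists_second_of_not_comm {X : Subgroup S} (hX : IsPGroup 2 X)
    (hne : ∃ x ∈ X, ∃ y ∈ X, x * y ≠ y * x) :
    ∃ x ∈ X, (∃ y ∈ X, x * y ≠ y * x) ∧ ∀ y ∈ X, ∀ u ∈ X,
      y * x * y⁻¹ * x⁻¹ * u = u * (y * x * y⁻¹ * x⁻¹) := by
  haveI : Fact (Nat.Prime 2) := ⟨Nat.prime_two⟩
  haveI : Nontrivial (X ⧸ center X) := by
    obtain ⟨x, hx, y, hy, hxy⟩ := hne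
    exact ⟨QuotientGroup.mk (⟨x, hx⟩ : X), 1, fun e => hxy (congrArg Subtype.val
      (mem_center_iff.1 ((QuotientGroup.eq_one_iff _).1 e) ⟨y, hy⟩)).symm⟩
  haveI := (hX.to_quotient (center X)).center_nontrivial
  obtain ⟨q, hq⟩ := exists_ne (1 : center (X ⧸ center X))
  obtain ⟨x, hx⟩ := QuotientGroup.mk'_surjective (center X) (q : X ⧸ center X)
  refine ⟨x, x.2, ?_, ?_⟩
  · by_contra hno
    push Not at hno
    refine hq (Subtype.ext ?_)
    rw [← hx, Subgroup.coe_one]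
    exact (QuotientGroup.eq_one_iff x).2
      (mem_center_iff.2 fun y => Subtype.ext (hno y y.2).symm)
  · intro y hy u hu
    have h : (⟨y, hy⟩ : X) * x * (⟨y, hy⟩ : X)⁻¹ * x⁻¹ ∈ center X := by
      refine (QuotientGroup.eq_one_iff _).1 ?_
      show QuotientGroup.mk' (center X) _ = 1
      simp only [map_mul, map_inv, hx]
      rw [mem_center_iff.1 q.2 _, mul_inv_cancel_right, mul_inv_cancel]
    exact (congrArg Subtype.val (mem_center_iff.1 h ⟨u, hu⟩)).symm

namespace Ctx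

variable (C : Ctx ρ b T)
include C

/-- An element of the second centre, inside `X`, moved by `b`. -/
theorem exists_moved {X : Subgroup S} (hXT : X ≤ T) (hXb : ∀ x ∈ X, b * x * b⁻¹ ∈ X)
    (hX1 : ∀ x ∈ X, (∀ y ∈ X, x * y = y * x) → Cen T x)
    (hX2 : ∀ x ∈ X, (∀ y ∈ X, Cen T (y * x * y⁻¹ * x⁻¹)) → x ∈ second T)
    (hne : ∃ x ∈ X, b * x * b⁻¹ ≠ x) :
    ∃ g ∈ X, g ∈ second T ∧ ¬ Cen T g ∧ Cen T (g * g) ∧
      g * (b * g * b⁻¹) * (b * (b * g * b⁻¹) * b⁻¹) = 1 := by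
  have hstart : ∃ f ∈ X, f ∈ second T ∧ ¬ Cen T (f⁻¹ * (b * f * b⁻¹)) := by
    by_contra hno
    push Not at hno
    have hnc : ∃ x ∈ X, ∃ y ∈ X, x * y ≠ y * x := by
      by_contra hc
      push Not at hc
      obtain ⟨x, hx, hxb⟩ := hne
      exact hxb (C.fixZ x (hX1 x hx (hc x hx)))
    obtain ⟨x, hx, ⟨y, hy, hxy⟩, hcomm⟩ := exists_second_of_not_comm (C.two.to_le hXT) hnc
    have hxs : x ∈ second T := hX2 x hx fun y hy => hX1 _
      (mul_mem (mul_mem (mul_mem hy hx) (inv_mem hy)) (inv_mem hx)) (hcomm y hy)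
    have hxb : b * x * b⁻¹ = x := fixed_of_fixed C.hyp C.two (hno x hx hxs).1 rfl
      (C.fixZ _ (hno x hx hxs))
    have hxT : ∀ t ∈ T, t * x = x * t := by
      have h : ⁅T, zpowers b⁆ ≤ centralizer {x} := by
        rw [commutator_le]
        intro t ht s hs
        have hs' : ∀ w : S, b * w * b⁻¹ = w → s * w * s⁻¹ = w := fun w hw => by
          have hb : b * w = w * b := by conv_rhs => rw [← hw, inv_mul_cancel_right]
          have hbc : zpowers b ≤ centralizer {w} :=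
            zpowers_le.2 (mem_centralizer_singleton_iff.2 hb)
          rw [mem_centralizer_singleton_iff.1 (hbc hs), mul_inv_cancel_right]
        set c := t⁻¹ * x * t * x⁻¹ with hc
        have hcen : Cen T c := by
          have := hxs.2 t⁻¹ (inv_mem ht)
          rwa [inv_inv] at this
        have h1 : t⁻¹ * x * t = c * x := by rw [hc]; group
        have h1' : t * (c * x) * t⁻¹ = x := by rw [← h1]; group
        have h2 : s⁻¹ * x * s = x := by
          conv_lhs => rw [← hs' x hxb]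
          group
        rw [mem_centralizer_singleton_iff, commutatorElement_def]
        calc t * s * t⁻¹ * s⁻¹ * x = t * s * t⁻¹ * (s⁻¹ * x * s) * s⁻¹ := by group
          _ = t * s * (t⁻¹ * x * t) * t⁻¹ * s⁻¹ := by rw [h2]; group
          _ = t * (s * c * s⁻¹) * (s * x * s⁻¹) * (s * t⁻¹ * s⁻¹) := by rw [h1]; group
          _ = t * c * x * (s * t⁻¹ * s⁻¹) := by rw [hs' c (C.fixZ c hcen), hs' x hxb]
          _ = (t * (c * x) * t⁻¹) * (t * s * t⁻¹ * s⁻¹) := by group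
          _ = x * (t * s * t⁻¹ * s⁻¹) := by rw [h1']
      rw [C.gen] at h
      exact fun t ht => mem_centralizer_singleton_iff.1 (h ht)
    exact hxy (hxT y (hXT hy)).symm
  obtain ⟨f, hfX, hfs, hf⟩ := hstart
  induction hn : orderOf f using Nat.strong_induction_on generalizing f with
  | _ n ih =>
    subst hn
    set g := f⁻¹ * (b * f * b⁻¹) with hg
    have hfb : b * f * b⁻¹ ∈ second T := by
      refine ⟨C.norm f hfs.1, fun t ht => ?_⟩
      have h := hfs.2 _ (C.norm_inv ht)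
      have h2 := C.fixZ _ h
      have e : t * (b * f * b⁻¹) * t⁻¹ * (b * f * b⁻¹)⁻¹ =
          b * (b⁻¹ * t * b * f * (b⁻¹ * t * b)⁻¹ * f⁻¹) * b⁻¹ := by group
      rw [e, h2]
      exact h
    have hgX : g ∈ X := mul_mem (inv_mem hfX) (hXb f hfX)
    have hgs : g ∈ second T := mul_mem (inv_mem hfs) hfb
    by_cases hgg : Cen T (g * g)
    · exact ⟨g, hgX, hgs, hf, hgg, telescope C.hyp.cube f⟩
    · have hc : Cen T (f⁻¹ * g * f * g⁻¹) := by simpa using hgs.2 f⁻¹ (inv_mem hfs.1)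
      have e : (f * f)⁻¹ * (b * (f * f) * b⁻¹) = (f⁻¹ * g * f * g⁻¹) * (g * g) := by
        rw [hg]; group
      refine ih _ ?_ (f * f) (mul_mem hfX hfX) (mul_mem hfs hfs) ?_ rfl
      · have hf1 : f ≠ 1 := by
          intro h
          refine hf ?_
          rw [hg, h]
          simpa using Cen.one T
        obtain ⟨k, hk⟩ := C.two ⟨f, hfs.1⟩
        have h2 : f ^ 2 ^ k = 1 := congrArg Subtype.val hk
        obtain ⟨m, -, hm⟩ := (Nat.dvd_prime_pow Nat.prime_two).1 (orderOf_dvd_of_pow_eq_one h2)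
        have hm0 : m ≠ 0 := fun h0 => hf1 (orderOf_eq_one_iff.1 (by rw [hm, h0, pow_zero]))
        rw [← pow_two, orderOf_pow' f two_ne_zero, hm,
          Nat.gcd_eq_right (dvd_pow_self 2 hm0)]
        exact Nat.div_lt_self (by positivity) one_lt_two
      · intro h
        refine hgg ?_
        have := hc.inv.mul (e ▸ h)
        rwa [inv_mul_cancel_left] at this

end Ctx

end CfsgLib.CubicBlock
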