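import Cfsg.Agent.CubicBlock.Basic
import Cfsg.Prelude.Def_Transfer

/-!
The four group `⟨g, b g b⁻¹⟩` moved by `b`, and the block it spans.
-/

set_option autoImplicit false
set_option linter.unusedSectionVars false

namespace CfsgLib.CubicBlock

open Subgroup

variable {S : Type*} [Group S] {E : Type*} [AddCommGroup E] [Module (ZMod 3) E] [Finite E]
  {ρ : Representation (ZMod 3) S E} {b g : S}

/-- The product over a `b`-orbit of a twisted commutator is trivial. -/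
theorem telescope (hb : b ^ 3 = 1) (f : S) :
    (f⁻¹ * (b * f * b⁻¹)) * (b * (f⁻¹ * (b * f * b⁻¹)) * b⁻¹) *
      (b * (b * (f⁻¹ * (b * f * b⁻¹)) * b⁻¹) * b⁻¹) = 1 := by
  calc _ = f⁻¹ * (b * b * b * f * (b * b * b)⁻¹) := by group
    _ = 1 := by rw [← pow_three', hb, one_mul, inv_one, mul_one, inv_mul_cancel]

theorem conj_cube (hb : b ^ 3 = 1) (g : S) : b * (b * (b * g * b⁻¹) * b⁻¹) * b⁻¹ = g := by
  calc _ = b * b * b * g * (b * b * b)⁻¹ := by group
    _ = g := by rw [← pow_three', hb, one_mul, inv_one, mul_one]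

/-- An involution whose orbit product is trivial gives a moved four group. -/
theorem four_mk (hb : b ^ 3 = 1) (hsq : g * g = 1)
    (hp : g * (b * g * b⁻¹) * (b * (b * g * b⁻¹) * b⁻¹) = 1) (hne : g ≠ 1) : Four b g := by
  refine ⟨hsq, ?_, hp, hne⟩
  have h1 : (b * g * b⁻¹) * (b * g * b⁻¹) = 1 := by
    calc (b * g * b⁻¹) * (b * g * b⁻¹) = b * (g * g) * b⁻¹ := by group
      _ = 1 := by rw [hsq, mul_one, mul_inv_cancel]
  have h2 : (b * (b * g * b⁻¹) * b⁻¹) * (b * (b * g * b⁻¹) * b⁻¹) = 1 := by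
    calc _ = b * ((b * g * b⁻¹) * (b * g * b⁻¹)) * b⁻¹ := by group
      _ = 1 := by rw [h1, mul_one, mul_inv_cancel]
  have e : g * (b * g * b⁻¹) = b * (b * g * b⁻¹) * b⁻¹ := by
    rw [mul_eq_one_iff_eq_inv.1 hp, inv_eq_of_mul_eq_one_left h2]
  have h3 : (g * (b * g * b⁻¹)) * (g * (b * g * b⁻¹)) = 1 := by rw [e, h2]
  calc g * (b * g * b⁻¹) = (g * (b * g * b⁻¹))⁻¹ := eq_inv_of_mul_eq_one_left h3
    _ = b * g * b⁻¹ * g := by
        rw [mul_inv_rev, inv_eq_of_mul_eq_one_left h1, inv_eq_of_mul_eq_one_left hsq]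

/-- The four group. -/
def fourGroup (F : Four b g) : Subgroup S where
  carrier := {x | x = 1 ∨ x = g ∨ x = b * g * b⁻¹ ∨ x = g * (b * g * b⁻¹)}
  one_mem' := Or.inl rfl
  mul_mem' := fun {x y} hx hy => by
    have hs := F.sq
    have hs1 := F.sq1
    have hc := F.comm
    revert hs hs1 hc hx hy
    generalize b * g * b⁻¹ = h
    intro hx hy hs hs1 hc
    have hs' : ∀ z, g * (g * z) = z := fun z => by rw [← mul_assoc, hs, one_mul]
    have hs1' : ∀ z, h * (h * z) = z := fun z => by rw [← mul_assoc, hs1, one_mul]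
    have hc' : ∀ z, h * (g * z) = g * (h * z) := fun z => by rw [← mul_assoc, ← hc, mul_assoc]
    rcases hx with rfl | rfl | rfl | rfl <;> rcases hy with rfl | rfl | rfl | rfl <;>
      simp [mul_assoc, hs, hs1, hs', hc', ← hc]
  inv_mem' := fun {x} hx => by
    have hs := F.sq
    have hs1 := F.sq1
    have h3 : (g * (b * g * b⁻¹)) * (g * (b * g * b⁻¹)) = 1 := by
      calc (g * (b * g * b⁻¹)) * (g * (b * g * b⁻¹))
          = g * ((b * g * b⁻¹) * g) * (b * g * b⁻¹) := by group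
        _ = g * (g * (b * g * b⁻¹)) * (b * g * b⁻¹) := by rw [← F.comm]
        _ = (g * g) * ((b * g * b⁻¹) * (b * g * b⁻¹)) := by group
        _ = 1 := by rw [hs, hs1, mul_one]
    rcases hx with rfl | rfl | rfl | rfl
    · left; exact inv_one
    · right; left; exact inv_eq_of_mul_eq_one_left hs
    · right; right; left; exact inv_eq_of_mul_eq_one_left hs1
    · right; right; right; exact inv_eq_of_mul_eq_one_left h3

theorem mem_fourGroup (F : Four b g) {x : S} :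
    x ∈ fourGroup F ↔ x = 1 ∨ x = g ∨ x = b * g * b⁻¹ ∨ x = g * (b * g * b⁻¹) := Iff.rfl

theorem fourGroup_le (F : Four b g) {U : Subgroup S} (hg : g ∈ U) (hg1 : b * g * b⁻¹ ∈ U) :
    fourGroup F ≤ U := by
  rintro x (rfl | rfl | rfl | rfl)
  · exact one_mem U
  · exact hg
  · exact hg1
  · exact mul_mem hg hg1

theorem Four.conj_mem (hb : b ^ 3 = 1) (F : Four b g) {x : S} (hx : x ∈ fourGroup F) :
    b * x * b⁻¹ ∈ fourGroup F := by
  rcases hx with rfl | rfl | rfl | rfl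
  · rw [mul_one, mul_inv_cancel]; exact one_mem _
  · exact Or.inr (Or.inr (Or.inl rfl))
  · exact Or.inr (Or.inr (Or.inr F.g2))
  · refine Or.inr (Or.inl ?_)
    rw [← F.g2]
    exact conj_cube hb g

theorem Lines.act_g {ea eb ec : E} (L : Lines ρ b g ea eb ec) :
    (ρ g ea = ea ∧ ρ g eb = -eb ∧ ρ g ec = -ec) ∧
    (ρ (b * g * b⁻¹) ea = -ea ∧ ρ (b * g * b⁻¹) eb = eb ∧ ρ (b * g * b⁻¹) ec = -ec) := by
  have ha := mem_piece.1 L.ma
  have hb := mem_piece.1 L.mb
  have hc := mem_piece.1 L.mc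
  simp only [one_smul, neg_smul] at ha hb hc
  exact ⟨⟨ha.1, hb.1, hc.1⟩, ha.2, hb.2, hc.2⟩

theorem Lines.signs {ea eb ec : E} (L : Lines ρ b g ea eb ec) {x : S} (hx : x * g = g * x)
    (hx' : x * (b * g * b⁻¹) = b * g * b⁻¹ * x) : ∃ sa sb sc : ZMod 3,
      (ρ x ea = sa • ea ∧ ρ x eb = sb • eb ∧ ρ x ec = sc • ec) ∧
      (sa = 1 ∨ sa = -1) ∧ (sb = 1 ∨ sb = -1) ∧ (sc = 1 ∨ sc = -1) := by
  obtain ⟨sa, hsa⟩ := L.spa _ (piece_invariant hx hx' L.ma)
  obtain ⟨sb, hsb⟩ := L.spb _ (piece_invariant hx hx' L.mb)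
  obtain ⟨sc, hsc⟩ := L.spc _ (piece_invariant hx hx' L.mc)
  exact ⟨sa, sb, sc, ⟨hsa, hsb, hsc⟩, sign_of_smul L.ne.1 hsa, sign_of_smul L.ne.2.1 hsb,
    sign_of_smul L.ne.2.2 hsc⟩

/-- Commutators with `b` of elements centralising the four group lie in it. -/
theorem Four.commutator_le (H : Hyp ρ b) (F : Four b g) {T : Subgroup S}
    (hT : ∀ t ∈ T, t * g = g * t ∧ t * (b * g * b⁻¹) = b * g * b⁻¹ * t) :
    ⁅T, zpowers b⁆ ≤ fourGroup F := by
  obtain ⟨ea, eb, ec, L⟩ := H.lines F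
  have hb1 : ∀ t ∈ T, t * b * t⁻¹ * b⁻¹ ∈ fourGroup F := by
    intro t ht
    set x := t * b * t⁻¹ * b⁻¹ with hx
    have hfix : ∀ v ∈ L0 ρ b g, ρ x v = v := by
      intro v hv
      have := commutator_le_fixer (ρ := ρ) (b := b) (T := T) (W := (L0 ρ b g : Set E))
        (fun s hs w hw => piece_invariant (hT s hs).1 (hT s hs).2 hw) L.fix
      exact this (show x ∈ ⁅T, zpowers b⁆ from by
        rw [hx, ← commutatorElement_def]
        exact commutator_mem_commutator ht (mem_zpowers b)) v hv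
    obtain ⟨sa, sb, sc, ⟨ta, tb, tc⟩, sa2, sb2, sc2⟩ := L.signs (hT t ht).1 (hT t ht).2
    obtain ⟨ra, rb, rc, ⟨ua, ub, uc⟩, -⟩ :=
      L.signs (hT _ (inv_mem ht)).1 (hT _ (inv_mem ht)).2
    have inv_sign : ∀ {e : E} {s r : ZMod 3}, ρ t e = s • e → (s = 1 ∨ s = -1) →
        ρ t⁻¹ e = r • e → ρ t⁻¹ e = s • e := by
      intro e s r h1 hs _
      have h2 : e = s • ρ t⁻¹ e := by rw [← map_smul, ← h1, rho_inv_apply]
      conv_rhs => rw [h2]
      rcases hs with rfl | rfl <;> simp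
    have ia := inv_sign ta sa2 ua
    have ib := inv_sign tb sb2 ub
    have ic := inv_sign tc sc2 uc
    have bi : ρ b⁻¹ ea = ec ∧ ρ b⁻¹ eb = ea ∧ ρ b⁻¹ ec = eb :=
      ⟨by rw [← L.bc, rho_inv_apply], by rw [← L.ba, rho_inv_apply],
        by rw [← L.bb, rho_inv_apply]⟩
    have xa : ρ x ea = (sc * sa) • ea := by
      rw [hx, rho_mul, rho_mul, rho_mul, bi.1, ic, map_smul, map_smul, L.bc, ta, smul_smul]
    have xb : ρ x eb = (sa * sb) • eb := by
      rw [hx, rho_mul, rho_mul, rho_mul, bi.2.1, ia, map_smul, map_smul, L.ba, tb, smul_smul]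
    have xc : ρ x ec = (sb * sc) • ec := by
      rw [hx, rho_mul, rho_mul, rho_mul, bi.2.2, ib, map_smul, map_smul, L.bb, tc, smul_smul]
    obtain ⟨⟨ga, gb, gc⟩, ha, hb, hc⟩ := L.act_g
    have g0 : ∀ v ∈ L0 ρ b g, ρ g v = v ∧ ρ (b * g * b⁻¹) v = v := fun v hv => by
      simpa [mem_piece] using mem_piece.1 hv
    rcases sa2 with rfl | rfl <;> rcases sb2 with rfl | rfl <;> rcases sc2 with rfl | rfl <;>
      simp only [one_mul, mul_one, neg_mul, mul_neg, neg_neg, one_smul, neg_smul] at xa xb xc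
    · exact Or.inl (L.ext H F (fun v hv => by rw [hfix v hv, rho_one]) (by rw [xa, rho_one])
        (by rw [xb, rho_one]) (by rw [xc, rho_one]))
    · exact Or.inr (Or.inr (Or.inl (L.ext H F (fun v hv => by rw [hfix v hv, (g0 v hv).2])
        (by rw [xa, ha]) (by rw [xb, hb]) (by rw [xc, hc]))))
    · exact Or.inr (Or.inl (L.ext H F (fun v hv => by rw [hfix v hv, (g0 v hv).1])
        (by rw [xa, ga]) (by rw [xb, gb]) (by rw [xc, gc])))
    · exact Or.inr (Or.inr (Or.inr (L.ext H F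
        (fun v hv => by rw [hfix v hv, rho_mul, (g0 v hv).2, (g0 v hv).1])
        (by rw [xa, rho_mul, ha, map_neg, ga]) (by rw [xb, rho_mul, hb, gb])
        (by rw [xc, rho_mul, hc, map_neg, gc, neg_neg]))))
    · exact Or.inr (Or.inr (Or.inr (L.ext H F
        (fun v hv => by rw [hfix v hv, rho_mul, (g0 v hv).2, (g0 v hv).1])
        (by rw [xa, rho_mul, ha, map_neg, ga]) (by rw [xb, rho_mul, hb, gb])
        (by rw [xc, rho_mul, hc, map_neg, gc, neg_neg]))))
    · exact Or.inr (Or.inl (L.ext H F (fun v hv => by rw [hfix v hv, (g0 v hv).1])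
        (by rw [xa, ga]) (by rw [xb, gb]) (by rw [xc, gc])))
    · exact Or.inr (Or.inr (Or.inl (L.ext H F (fun v hv => by rw [hfix v hv, (g0 v hv).2])
        (by rw [xa, ha]) (by rw [xb, hb]) (by rw [xc, hc]))))
    · exact Or.inl (L.ext H F (fun v hv => by rw [hfix v hv, rho_one]) (by rw [xa, rho_one])
        (by rw [xb, rho_one]) (by rw [xc, rho_one]))
  rw [Subgroup.commutator_le]
  intro t ht s hs
  rw [commutatorElement_def]
  rcases H.b_cases hs with rfl | rfl | rfl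
  · simp
  · exact hb1 t ht
  · have e : t * (b * b) * t⁻¹ * (b * b)⁻¹ =
        (t * b * t⁻¹ * b⁻¹) * (b * (t * b * t⁻¹ * b⁻¹) * b⁻¹) := by group
    rw [e]
    exact mul_mem (hb1 t ht) (F.conj_mem H.cube (hb1 t ht))

/-- An element centralising a moved four group commutes with its `b`-conjugate. -/
theorem Four.commute_conj (H : Hyp ρ b) (F : Four b g) {x : S} (hx : x * g = g * x)
    (hx' : x * (b * g * b⁻¹) = b * g * b⁻¹ * x) (hy : b * x * b⁻¹ * g = g * (b * x * b⁻¹))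
    (hy' : b * x * b⁻¹ * (b * g * b⁻¹) = b * g * b⁻¹ * (b * x * b⁻¹)) :
    x * (b * x * b⁻¹) = b * x * b⁻¹ * x := by
  obtain ⟨ea, eb, ec, L⟩ := H.lines F
  obtain ⟨sa, sb, sc, ⟨ta, tb, tc⟩, -⟩ := L.signs hx hx'
  obtain ⟨ra, rb, rc, ⟨ua, ub, uc⟩, -⟩ := L.signs hy hy'
  refine L.ext H F (fun v hv => ?_) ?_ ?_ ?_
  · have e : ∀ w ∈ L0 ρ b g, ρ (b * x * b⁻¹) w = ρ x w := fun w hw => by
      have hbi : ρ b⁻¹ w = w := by rw [← L.fix w hw, rho_inv_apply, L.fix w hw]
      rw [rho_mul, rho_mul, hbi, L.fix _ (piece_invariant hx hx' hw)]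
    rw [rho_mul ρ x (b * x * b⁻¹), rho_mul ρ (b * x * b⁻¹) x, e v hv,
      e _ (piece_invariant hx hx' hv)]
  · rw [rho_mul, ua, map_smul, ta, rho_mul, ta, map_smul, ua, smul_comm]
  · rw [rho_mul, ub, map_smul, tb, rho_mul, tb, map_smul, ub, smul_comm]
  · rw [rho_mul, uc, map_smul, tc, rho_mul, tc, map_smul, uc, smul_comm]

/-- The elements stabilising a subspace. -/
def stabSub (ρ : Representation (ZMod 3) S E) (W : Submodule (ZMod 3) E) : Subgroup S where
  carrier := {x | ∀ v, ρ x v ∈ W ↔ v ∈ W}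
  one_mem' := fun v => by rw [rho_one]
  mul_mem' := fun {x y} hx hy v => by rw [rho_mul, hx, hy]
  inv_mem' := fun {x} hx v => by rw [← hx (ρ x⁻¹ v), rho_apply_inv]

theorem mem_stabSub_of_maps {W : Submodule (ZMod 3) E} {x : S} (h : ∀ v ∈ W, ρ x v ∈ W) :
    x ∈ stabSub ρ W := by
  intro v
  refine ⟨fun hv => ?_, h v⟩
  obtain ⟨⟨w, hw⟩, hwe⟩ := (LinearMap.injective_iff_surjective (f := (ρ x).restrict h)).1
    (fun a c e => Subtype.ext (by
      have := congrArg (fun u : W => ρ x⁻¹ (u : E)) e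
      simpa [rho_inv_apply] using this)) ⟨_, hv⟩
  have h2 : ρ x w = ρ x v := congrArg Subtype.val hwe
  have h3 := congrArg (ρ x⁻¹) h2
  rw [rho_inv_apply, rho_inv_apply] at h3
  rwa [← h3]

/-- The conclusion: `E` splits into a fixed part and a faithful irreducible part. -/
def Block (ρ : Representation (ZMod 3) S E) (b : S) (T : Subgroup S) : Prop :=
  ∃ F₀ F₁ : Submodule (ZMod 3) E, F₀ ⊓ F₁ = ⊥ ∧ F₀ ⊔ F₁ = ⊤ ∧
    (∀ r ∈ T, ∀ v ∈ F₁, ρ r v = v) ∧ (∀ r ∈ T ⊔ zpowers b, ∀ v ∈ F₀, ρ r v ∈ F₀) ∧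
    (∀ r ∈ T ⊔ zpowers b, (∀ v ∈ F₀, ρ r v = v) → r = 1) ∧
    (∀ N : Submodule (ZMod 3) E, N ≤ F₀ → (∀ r ∈ T ⊔ zpowers b, ∀ v ∈ N, ρ r v ∈ N) →
      N = ⊥ ∨ N = F₀)

theorem block_of (H : Hyp ρ b) {T : Subgroup S} {F₀ F₁ : Submodule (ZMod 3) E}
    (hinf : F₀ ⊓ F₁ = ⊥) (hsup : F₀ ⊔ F₁ = ⊤) (hb : ∀ v ∈ F₁, ρ b v = v)
    (hT : ∀ r ∈ T, ∀ v ∈ F₁, ρ r v = v) (hTm : ∀ r ∈ T, ∀ v ∈ F₀, ρ r v ∈ F₀)
    (hbm : ∀ v ∈ F₀, ρ b v ∈ F₀)
    (hirr : ∀ N : Submodule (ZMod 3) E, N ≤ F₀ → (∀ r ∈ T, ∀ v ∈ N, ρ r v ∈ N) →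
      (∀ v ∈ N, ρ b v ∈ N) → N = ⊥ ∨ N = F₀) : Block ρ b T := by
  refine ⟨F₀, F₁, hinf, hsup, hT, ?_, ?_, ?_⟩
  · have h : T ⊔ zpowers b ≤ stabSub ρ F₀ :=
      sup_le (fun r hr => mem_stabSub_of_maps (hTm r hr)) (zpowers_le.2 (mem_stabSub_of_maps hbm))
    exact fun r hr v hv => (h hr v).2 hv
  · intro r hr hfix
    have h : T ⊔ zpowers b ≤ fixer ρ (F₁ : Set E) := sup_le hT (zpowers_le.2 hb)
    refine H.eq_one fun v => ?_
    obtain ⟨x, hx, y, hy, rfl⟩ :=
      Submodule.mem_sup.1 (hsup ▸ Submodule.mem_top (x := v) : v ∈ F₀ ⊔ F₁)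
    rw [map_add, hfix x hx, h hr y hy]
  · exact fun N hN hinv => hirr N hN (fun r hr => hinv r (mem_sup_left hr))
      (hinv b (mem_sup_right (mem_zpowers b)))

theorem Four.block (H : Hyp ρ b) (F : Four b g) : Block ρ b (fourGroup F) := by
  obtain ⟨ea, eb, ec, L⟩ := H.lines F
  have hpr : ∀ v ∈ Submodule.span (ZMod 3) {ea, eb, ec}, ∃ i j k : ZMod 3,
      v = i • ea + j • eb + k • ec := fun v hv => by
    obtain ⟨i, w, hw, rfl⟩ := Submodule.mem_span_insert.1 hv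
    obtain ⟨j, k, rfl⟩ := Submodule.mem_span_pair.1 hw
    exact ⟨i, j, k, (add_assoc _ _ _).symm⟩
  set F0 := Submodule.span (ZMod 3) {ea, eb, ec} with hF0
  have ma : ea ∈ F0 := Submodule.subset_span (by simp)
  have mb : eb ∈ F0 := Submodule.subset_span (by simp)
  have mc : ec ∈ F0 := Submodule.subset_span (by simp)
  obtain ⟨⟨ga, gb, gc⟩, ha, hb, hc⟩ := L.act_g
  have gmaps : ∀ v ∈ F0, ρ g v ∈ F0 := fun v hv => by
    obtain ⟨i, j, k, rfl⟩ := hpr v hv
    simp only [map_add, map_smul, ga, gb, gc, smul_neg]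
    exact F0.add_mem (F0.add_mem (F0.smul_mem i ma) (F0.neg_mem (F0.smul_mem j mb)))
      (F0.neg_mem (F0.smul_mem k mc))
  have hmaps : ∀ v ∈ F0, ρ (b * g * b⁻¹) v ∈ F0 := fun v hv => by
    obtain ⟨i, j, k, rfl⟩ := hpr v hv
    simp only [map_add, map_smul, ha, hb, hc, smul_neg]
    exact F0.add_mem (F0.add_mem (F0.neg_mem (F0.smul_mem i ma)) (F0.smul_mem j mb))
      (F0.neg_mem (F0.smul_mem k mc))
  have hV : fourGroup F ≤ stabSub ρ F0 :=
    fourGroup_le F (mem_stabSub_of_maps gmaps) (mem_stabSub_of_maps hmaps)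
  refine block_of (F₀ := F0) (F₁ := L0 ρ b g) H ?_ ?_ L.fix ?_
    (fun r hr v hv => (hV hr v).2 hv) ?_ ?_
  · rw [Submodule.eq_bot_iff]
    rintro v ⟨hv, hv0⟩
    obtain ⟨i, j, k, rfl⟩ := hpr v hv
    have h0 := mem_piece.1 hv0
    simp only [one_smul, map_add, map_smul, ga, gb, gc, ha, hb, hc, smul_neg] at h0
    have e1 : j • eb + k • ec = 0 := eq_zero_of_two (by
      calc j • eb + k • ec + (j • eb + k • ec)
          = (i • ea + j • eb + k • ec) - (i • ea + -(j • eb) + -(k • ec)) := by abel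
        _ = 0 := by rw [h0.1, sub_self])
    have e2 : i • ea + k • ec = 0 := eq_zero_of_two (by
      calc i • ea + k • ec + (i • ea + k • ec)
          = (i • ea + j • eb + k • ec) - (-(i • ea) + j • eb + -(k • ec)) := by abel
        _ = 0 := by rw [h0.2, sub_self])
    obtain ⟨-, z2, z3⟩ := zero_of_sum (Submodule.zero_mem (La ρ b g))
      (Submodule.smul_mem _ j L.mb) (Submodule.smul_mem _ k L.mc) (by rw [zero_add]; exact e1)
    rw [z3, add_zero] at e2
    rw [e2, z2, z3, add_zero, add_zero]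
  · rw [Submodule.eq_top_iff']
    intro v
    obtain ⟨v0, h0, va, ha', vb, hb', vc, hc', rfl⟩ := F.decomp (ρ := ρ) v
    obtain ⟨i, rfl⟩ := L.spa va ha'
    obtain ⟨j, rfl⟩ := L.spb vb hb'
    obtain ⟨k, rfl⟩ := L.spc vc hc'
    rw [add_assoc, add_assoc, add_comm v0]
    exact Submodule.add_mem_sup
      (F0.add_mem (F0.smul_mem i ma) (F0.add_mem (F0.smul_mem j mb) (F0.smul_mem k mc))) h0
  · intro r hr v hv
    have hv' := mem_piece.1 hv
    simp only [one_smul] at hv'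
    exact fourGroup_le F (U := fixer ρ {v}) (fun w hw => by rw [Set.mem_singleton_iff.1 hw, hv'.1])
      (fun w hw => by rw [Set.mem_singleton_iff.1 hw, hv'.2]) hr v rfl
  · intro v hv
    obtain ⟨i, j, k, rfl⟩ := hpr v hv
    simp only [map_add, map_smul, L.ba, L.bb, L.bc]
    exact F0.add_mem (F0.add_mem (F0.smul_mem i mb) (F0.smul_mem j mc)) (F0.smul_mem k ma)
  · intro N hN hVN hbN
    by_cases hbot : N = ⊥
    · exact Or.inl hbot
    refine Or.inr (le_antisymm hN ?_)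
    obtain ⟨v, hv, hv0⟩ := Submodule.exists_mem_ne_zero_of_ne_bot hbot
    have hea : ∃ e ∈ ({ea, eb, ec} : Set E), e ∈ N := by
      obtain ⟨i, j, k, rfl⟩ := hpr v (hN hv)
      have h1 := hVN g (Or.inr (Or.inl rfl)) _ hv
      have h2 := hVN _ (Or.inr (Or.inr (Or.inl rfl))) _ hv
      simp only [map_add, map_smul, ga, gb, gc, ha, hb, hc, smul_neg] at h1 h2
      have hi : i • ea ∈ N := by
        have h3 := N.neg_mem (N.add_mem hv h1)
        have e : -(i • ea + j • eb + k • ec + (i • ea + -(j • eb) + -(k • ec))) = i • ea := by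
          calc _ = i • ea - (i • ea + i • ea + i • ea) := by abel
            _ = i • ea := by rw [three, sub_zero]
        rwa [e] at h3
      have hj : j • eb ∈ N := by
        have h3 := N.neg_mem (N.add_mem hv h2)
        have e : -(i • ea + j • eb + k • ec + (-(i • ea) + j • eb + -(k • ec))) = j • eb := by
          calc _ = j • eb - (j • eb + j • eb + j • eb) := by abel
            _ = j • eb := by rw [three, sub_zero]
        rwa [e] at h3
      have hk : k • ec ∈ N := by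
        have h3 := N.sub_mem (N.sub_mem hv hi) hj
        have e : i • ea + j • eb + k • ec - i • ea - j • eb = k • ec := by abel
        rwa [e] at h3
      by_cases i0 : i = 0
      · by_cases j0 : j = 0
        · have k0 : k ≠ 0 := fun k0 => hv0 (by simp [i0, j0, k0])
          exact ⟨ec, by simp, by simpa [smul_smul, k0] using N.smul_mem k⁻¹ hk⟩
        · exact ⟨eb, by simp, by simpa [smul_smul, j0] using N.smul_mem j⁻¹ hj⟩
      · exact ⟨ea, by simp, by simpa [smul_smul, i0] using N.smul_mem i⁻¹ hi⟩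
    obtain ⟨e, he, heN⟩ := hea
    have hea' : ea ∈ N := by
      rcases he with rfl | rfl | rfl
      · exact heN
      · rw [← L.bc, ← L.bb]; exact hbN _ (hbN _ heN)
      · rw [← L.bc]; exact hbN _ heN
    have heb' : eb ∈ N := L.ba ▸ hbN _ hea'
    rw [hF0, Submodule.span_le]
    rintro x (rfl | rfl | rfl)
    · exact hea'
    · exact heb'
    · exact L.bb ▸ hbN _ heb'

theorem card_fourGroup (H : Hyp ρ b) (F : Four b g) :
    Nat.card (fourGroup F) = 4 ∧ Cfsg.IsElementaryAbelian 2 (fourGroup F) := by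
  classical
  obtain ⟨ea, eb, ec, L⟩ := H.lines F
  obtain ⟨⟨ga, gb, gc⟩, ha, hb, hc⟩ := L.act_g
  have hne : ∀ {e : E}, e ≠ 0 → e ≠ -e := fun he e' => he (eq_zero_of_eq_neg e')
  have h1g : g ≠ b * g * b⁻¹ := fun e => hne L.ne.1 (by rw [← ha, ← e, ga])
  have h1 : b * g * b⁻¹ ≠ 1 := fun e => hne L.ne.1 (by rw [← ha, e, rho_one])
  have hgg : g * (b * g * b⁻¹) ≠ 1 := fun e => hne L.ne.1 (by
    have h := congrArg (fun x => ρ x ea) e
    simp only [rho_mul ρ g (b * g * b⁻¹), ha, map_neg, ga, rho_one] at h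
    exact h.symm)
  have hsq : ∀ x ∈ fourGroup F, x * x = 1 := by
    intro x hx
    rcases hx with rfl | rfl | rfl | rfl
    · exact one_mul 1
    · exact F.sq
    · exact F.sq1
    · calc g * (b * g * b⁻¹) * (g * (b * g * b⁻¹))
          = g * ((b * g * b⁻¹) * g) * (b * g * b⁻¹) := by group
        _ = g * (g * (b * g * b⁻¹)) * (b * g * b⁻¹) := by rw [← F.comm]
        _ = (g * g) * ((b * g * b⁻¹) * (b * g * b⁻¹)) := by group
        _ = 1 := by rw [F.sq, F.sq1, mul_one]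
  refine ⟨?_, ⟨⟨fun x y => Subtype.ext ?_⟩⟩, fun x hx => by rw [pow_two, hsq x hx]⟩
  · have e : (fourGroup F : Set S) =
        ({1, g, b * g * b⁻¹, g * (b * g * b⁻¹)} : Finset S) := by
      ext x
      simp [mem_fourGroup]
    rw [← SetLike.coe_sort_coe, e, Nat.card_coe_set_eq, Set.ncard_coe_finset]
    rw [Finset.card_insert_of_notMem, Finset.card_insert_of_notMem, Finset.card_insert_of_notMem,
      Finset.card_singleton]
    · simp only [Finset.mem_singleton]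
      exact fun e => F.ne (mul_eq_right.1 e.symm)
    · simp only [Finset.mem_insert, Finset.mem_singleton, not_or]
      exact ⟨h1g, fun e => h1 (mul_eq_left.1 e.symm)⟩
    · simp only [Finset.mem_insert, Finset.mem_singleton, not_or]
      exact ⟨fun e => F.ne e.symm, fun e => h1 e.symm, fun e => hgg e.symm⟩
  · show (x : S) * y = y * x
    calc (x : S) * y = ((x : S) * y)⁻¹ := eq_inv_of_mul_eq_one_left (hsq _ (mul_mem x.2 y.2))
      _ = y * x := by
        rw [mul_inv_rev, inv_eq_of_mul_eq_one_left (hsq _ x.2),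
          inv_eq_of_mul_eq_one_left (hsq _ y.2)]

end CfsgLib.CubicBlock
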