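import Cfsg.Agent.CubicBlock.Big

/-!
A 2-group `T = ⁅T, ⟨b⟩⁆` with centre fixed by `b` is quaternion of order eight or the big group.
-/

set_option autoImplicit false
set_option linter.unusedSectionVars false

namespace CfsgLib.CubicBlock

open Subgroup

variable {S : Type*} [Group S] [Finite S] {E : Type*} [AddCommGroup E] [Module (ZMod 3) E]
  [Finite E] {ρ : Representation (ZMod 3) S E} {b : S} {T : Subgroup S}

/-- The quaternion data: `a` and `b a b⁻¹` generate `T`. -/
structure QuatData (b : S) (T : Subgroup S) (a z : S) : Prop where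
  ha : a ∈ T
  ha1 : b * a * b⁻¹ ∈ T
  sq : a * a = z
  sq1 : (b * a * b⁻¹) * (b * a * b⁻¹) = z
  z2 : z * z = 1
  z1 : z ≠ 1
  cen : Cen T z
  fix : b * z * b⁻¹ = z
  rel : b * a * b⁻¹ * a = z * (a * (b * a * b⁻¹))
  cover : ∀ t ∈ T, ∃ r, (r = 1 ∨ r = a ∨ r = b * a * b⁻¹ ∨ r = a * (b * a * b⁻¹)) ∧
    (t = r ∨ t = z * r)

/-- The quaternion outcome. -/
def Quat (b : S) (T : Subgroup S) : Prop := ∃ a z, QuatData b T a z

theorem QuatData.invol {a z : S} (D : QuatData b T a z) {x : S} (hx : x ∈ T) (hx2 : x * x = 1) :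
    x = 1 ∨ x = z := by
  obtain ⟨r, hr, hxr⟩ := D.cover x hx
  have hr2 : r = 1 ∨ r * r = z := by
    rcases hr with rfl | rfl | rfl | rfl
    · exact Or.inl rfl
    · exact Or.inr D.sq
    · exact Or.inr D.sq1
    · refine Or.inr ?_
      calc a * (b * a * b⁻¹) * (a * (b * a * b⁻¹))
          = a * ((b * a * b⁻¹) * a) * (b * a * b⁻¹) := by group
        _ = (a * z) * a * ((b * a * b⁻¹) * (b * a * b⁻¹)) := by rw [D.rel]; group
        _ = (z * a) * a * z := by rw [← D.cen.2 a D.ha, D.sq1]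
        _ = z * (a * a) * z := by group
        _ = z := by rw [D.sq, D.z2, one_mul]
  have hrT : r ∈ T := by
    rcases hxr with h | h
    · exact h ▸ hx
    · have : r = z * x := by rw [h, ← mul_assoc, D.z2, one_mul]
      exact this ▸ mul_mem D.cen.1 hx
  rcases hr2 with rfl | hr2
  · rcases hxr with h | h
    · exact Or.inl h
    · exact Or.inr (by rw [h, mul_one])
  · refine absurd ?_ D.z1
    rcases hxr with rfl | rfl
    · rw [← hr2, hx2]
    · rw [← hx2]
      calc z = (z * z) * z := by rw [D.z2, one_mul]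
        _ = (z * z) * (r * r) := by rw [hr2]
        _ = z * (z * r) * r := by group
        _ = z * (r * z) * r := by rw [D.cen.2 r hrT]
        _ = z * r * (z * r) := by group

theorem QuatData.central {a z : S} (D : QuatData b T a z) {x : S} (hx : x ∈ T)
    (h : a * x = x * a) (h' : (b * a * b⁻¹) * x = x * (b * a * b⁻¹)) : x = 1 ∨ x = z := by
  obtain ⟨r, hr, hxr⟩ := D.cover x hx
  have hcom : ∀ u ∈ T, u * x = x * u → u * r = r * u := by
    intro u hu hux
    rcases hxr with rfl | rfl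
    · exact hux
    · have : z * (u * r) = z * (r * u) := by
        rw [← mul_assoc, D.cen.2 u hu, mul_assoc, hux, mul_assoc]
      exact mul_left_cancel this
  have no : ∀ u v : S, u * v = z * (v * u) → u * v ≠ v * u := fun u v e e' =>
    D.z1 (mul_eq_right.1 (e.symm.trans e'))
  have e1 := hcom a D.ha h
  have e2 := hcom _ D.ha1 h'
  rcases hr with rfl | rfl | rfl | rfl
  · rcases hxr with hh | hh
    · exact Or.inl hh
    · exact Or.inr (by rw [hh, mul_one])
  · exact absurd e2 (no _ _ D.rel)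
  · exact absurd e1.symm (no _ _ D.rel)
  · refine absurd ?_ (no _ _ D.rel)
    rw [mul_assoc a (b * a * b⁻¹) a] at e1
    exact (mul_left_cancel e1).symm

/-- Correcting `t` to centralise a quaternion pair. -/
theorem exists_correct {a a1 z t : S} (hz2 : z * z = 1) (za : z * a = a * z)
    (za1 : z * a1 = a1 * z) (rel : a1 * a = z * (a * a1))
    (h : t * a * t⁻¹ = a ∨ t * a * t⁻¹ = z * a)
    (h' : t * a1 * t⁻¹ = a1 ∨ t * a1 * t⁻¹ = z * a1) :
    ∃ r, (r = 1 ∨ r = a ∨ r = a1 ∨ r = a * a1) ∧ r * t * a = a * (r * t) ∧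
      r * t * a1 = a1 * (r * t) := by
  have rel' : a * a1 = z * (a1 * a) := by rw [rel, ← mul_assoc, hz2, one_mul]
  have mv : ∀ x : S, (t * x * t⁻¹ = x → t * x = x * t) ∧
      (t * x * t⁻¹ = z * x → t * x = z * x * t) := fun x =>
    ⟨mul_inv_eq_iff_eq_mul.1, mul_inv_eq_iff_eq_mul.1⟩
  rcases h with h | h <;> rcases h' with h' | h'
  · exact ⟨1, Or.inl rfl, by rw [one_mul]; exact (mv a).1 h, by rw [one_mul]; exact (mv a1).1 h'⟩
  · refine ⟨a, Or.inr (Or.inl rfl), ?_, ?_⟩
    · rw [mul_assoc, (mv a).1 h]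
    · rw [mul_assoc, (mv a1).2 h']
      calc a * (z * a1 * t) = (a * z) * a1 * t := by group
        _ = z * (a * a1) * t := by rw [← za]; group
        _ = a1 * a * t := by rw [rel]
        _ = a1 * (a * t) := by group
  · refine ⟨a1, Or.inr (Or.inr (Or.inl rfl)), ?_, ?_⟩
    · rw [mul_assoc, (mv a).2 h]
      calc a1 * (z * a * t) = (a1 * z) * a * t := by group
        _ = z * (a1 * a) * t := by rw [← za1]; group
        _ = a * a1 * t := by rw [rel']
        _ = a * (a1 * t) := by group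
    · rw [mul_assoc, (mv a1).1 h']
  · refine ⟨a * a1, Or.inr (Or.inr (Or.inr rfl)), ?_, ?_⟩
    · rw [mul_assoc, (mv a).2 h]
      calc a * a1 * (z * a * t) = a * (a1 * z) * a * t := by group
        _ = (a * z) * (a1 * a) * t := by rw [← za1]; group
        _ = (a * z) * z * (a * a1) * t := by rw [rel]; group
        _ = a * (z * z) * (a * a1) * t := by group
        _ = a * (a * a1 * t) := by rw [hz2]; group
    · rw [mul_assoc, (mv a1).2 h']
      calc a * a1 * (z * a1 * t) = a * (a1 * z) * a1 * t := by group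
        _ = (a * z) * (a1 * a1 * t) := by rw [← za1]; group
        _ = z * (a * a1) * (a1 * t) := by rw [← za]; group
        _ = a1 * a * (a1 * t) := by rw [rel]
        _ = a1 * (a * a1 * t) := by group

namespace Ctx

variable (C : Ctx ρ b T)
include C

theorem second_conj {g : S} (hg : g ∈ second T) : b * g * b⁻¹ ∈ second T := by
  refine ⟨C.norm g hg.1, fun t ht => ?_⟩
  have h := hg.2 _ (C.norm_inv ht)
  have e : t * (b * g * b⁻¹) * t⁻¹ * (b * g * b⁻¹)⁻¹ =
      b * (b⁻¹ * t * b * g * (b⁻¹ * t * b)⁻¹ * g⁻¹) * b⁻¹ := by group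
  rw [e, C.fixZ _ h]
  exact h

/-- The relations for a second centre element of order four moved by `b`. -/
theorem quat_rel {g : S} (hg : g ∈ second T) (hgg : Cen T (g * g))
    (hp : g * (b * g * b⁻¹) * (b * (b * g * b⁻¹) * b⁻¹) = 1) :
    g * g * (g * g) = 1 ∧ (b * g * b⁻¹) * (b * g * b⁻¹) = g * g ∧
      b * g * b⁻¹ * g = g * g * (g * (b * g * b⁻¹)) := by
  set z := g * g with hz
  set g1 := b * g * b⁻¹ with hg1
  set g2 := b * g1 * b⁻¹ with hg2
  have s1 : g1 * g1 = z := by
    calc g1 * g1 = b * z * b⁻¹ := by rw [hg1, hz]; group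
      _ = z := C.fixZ z hgg
  have s2 : g2 * g2 = z := by
    calc g2 * g2 = b * (g1 * g1) * b⁻¹ := by rw [hg2]; group
      _ = z := by rw [s1, C.fixZ z hgg]
  have hg1T : g1 ∈ T := C.norm g hg.1
  set c := g1 * g * g1⁻¹ * g⁻¹ with hc
  have hcc : Cen T c := hg.2 g1 hg1T
  have e1 : g1 * g = c * (g * g1) := by rw [hc]; group
  have c2 : c * c = 1 := by
    have h1 : g1 * (g1 * g) = c * (c * (g * g1)) * g1 := by
      calc g1 * (g1 * g) = g1 * (c * (g * g1)) := by rw [e1]
        _ = (g1 * c) * (g * g1) := by group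
        _ = (c * g1) * (g * g1) := by rw [hcc.2 g1 hg1T]
        _ = c * (g1 * g) * g1 := by group
        _ = c * (c * (g * g1)) * g1 := by rw [e1]
    have h2 : z * g = c * c * g * z := by
      calc z * g = g1 * (g1 * g) := by rw [← mul_assoc, s1]
        _ = c * c * g * (g1 * g1) := by rw [h1]; group
        _ = c * c * g * z := by rw [s1]
    rw [hgg.2 g hg.1] at h2
    exact mul_eq_right.1 (mul_right_cancel h2).symm
  have e2 : c * (z * z) = z⁻¹ := by
    have h1 : g * g1 = g2⁻¹ := eq_inv_of_mul_eq_one_left hp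
    have h2 : (g * g1) * (g * g1) = z⁻¹ := by rw [h1, ← mul_inv_rev, s2]
    calc c * (z * z) = c * (g * g) * (g1 * g1) := by rw [s1, ← hz]; group
      _ = (c * g) * g * (g1 * g1) := by group
      _ = (g * c) * g * (g1 * g1) := by rw [hcc.2 g hg.1]
      _ = g * (c * (g * g1)) * g1 := by group
      _ = g * (g1 * g) * g1 := by rw [e1]
      _ = z⁻¹ := by rw [← h2]; group
  have hz2 : z * z = 1 := by
    have h3 : c * (z * z * z) = 1 := by rw [← mul_assoc c (z * z), e2, inv_mul_cancel]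
    have hcz : c = z * z * z := by
      exact (inv_eq_of_mul_eq_one_right c2).symm.trans (inv_eq_of_mul_eq_one_right h3)
    refine eq_one_of_pow_three C.two (mul_mem hgg.1 hgg.1) ?_
    calc z * z * (z * z) * (z * z) = (z * z * z) * (z * z * z) := by group
      _ = 1 := by rw [← hcz, c2]
  rw [hz2, mul_one] at e2
  exact ⟨hz2, s1, by rw [e1, e2, inv_eq_of_mul_eq_one_left hz2]⟩

theorem quat_or_big (hne : T ≠ ⊥) : Quat b T ∨ Big ρ b T := by
  classical
  have hmove : ∃ x ∈ T, b * x * b⁻¹ ≠ x := by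
    by_contra hno
    push Not at hno
    refine hne (le_bot_iff.1 (C.gen ▸ commutator_le.2 fun t ht s hs => ?_))
    have hb : t * b = b * t := by conv_lhs => rw [← hno t ht, inv_mul_cancel_right]
    obtain ⟨n, rfl⟩ := mem_zpowers_iff.1 hs
    rw [mem_bot, commutatorElement_eq_one_iff_mul_comm]
    exact ((show Commute t b from hb).zpow_right n).eq
  obtain ⟨g, hgT, hgs, hnc, hgg, hp⟩ := C.exists_moved (X := T) le_rfl C.norm
    (fun x hx h => ⟨hx, h⟩) (fun x hx h => ⟨hx, h⟩) hmove
  by_cases hsq : g * g = 1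
  · obtain ⟨z, e, R⟩ := frame_exists C hgs hnc hsq hp
    exact Or.inr (R.big C)
  obtain ⟨hz2, s1, rel⟩ := C.quat_rel hgs hgg hp
  set z := g * g with hzdef
  set g1 := b * g * b⁻¹ with hg1
  have hg1T : g1 ∈ T := C.norm g hgT
  have za : z * g = g * z := hgg.2 g hgT
  have za1 : z * g1 = g1 * z := hgg.2 g1 hg1T
  have hval : ∀ x ∈ second T, x * x = z → ∀ t ∈ T, t * x * t⁻¹ = x ∨ t * x * t⁻¹ = z * x := by
    intro x hx hxx t ht
    set c := t * x * t⁻¹ * x⁻¹ with hc
    have hcen : Cen T c := hx.2 t ht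
    have h1 : t * x * t⁻¹ = c * x := by rw [hc, inv_mul_cancel_right]
    have h2 : c * c * z = z := by
      calc c * c * z = c * (c * x) * x := by rw [← hxx]; group
        _ = c * (x * c) * x := by rw [hcen.2 x hx.1]
        _ = (t * x * t⁻¹) * (t * x * t⁻¹) := by rw [h1]; group
        _ = t * z * t⁻¹ := by rw [← hxx]; group
        _ = z := hgg.conj_eq ht
    rw [h1]
    by_cases hc1 : c = 1
    · exact Or.inl (by rw [hc1, one_mul])
    · exact Or.inr (by rw [C.unique_invol hcen hgg (mul_eq_right.1 h2) hz2 hc1 hsq])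
  have correct : ∀ t ∈ T, ∃ r, (r = 1 ∨ r = g ∨ r = g1 ∨ r = g * g1) ∧
      r * t * g = g * (r * t) ∧ r * t * g1 = g1 * (r * t) := fun t ht =>
    exists_correct hz2 za za1 rel (hval g hgs rfl t ht) (hval g1 (C.second_conj hgs) s1 t ht)
  have hrT : ∀ r, (r = 1 ∨ r = g ∨ r = g1 ∨ r = g * g1) → r ∈ T := by
    rintro r (rfl | rfl | rfl | rfl)
    exacts [one_mem T, hgT, hg1T, mul_mem hgT hg1T]
  let X : Subgroup S := T ⊓ centralizer {g, g1}
  have mX : ∀ {x}, x ∈ X ↔ x ∈ T ∧ x * g = g * x ∧ x * g1 = g1 * x := fun {x} => by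
    simp only [X, mem_inf, mem_centralizer_iff, Set.mem_insert_iff, Set.mem_singleton_iff]
    exact ⟨fun h => ⟨h.1, (h.2 g (Or.inl rfl)).symm, (h.2 g1 (Or.inr rfl)).symm⟩,
      fun h => ⟨h.1, fun y hy => by rcases hy with rfl | rfl; exacts [h.2.1.symm, h.2.2.symm]⟩⟩
  have g2eq : b * g1 * b⁻¹ = (g * g1)⁻¹ := (inv_eq_of_mul_eq_one_right hp).symm
  have hXb : ∀ x ∈ X, b * x * b⁻¹ ∈ X := by
    intro x hx
    obtain ⟨hxT, hxg, hxg1⟩ := mX.1 hx
    have c1 : Commute (b * x * b⁻¹) g1 := by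
      show b * x * b⁻¹ * g1 = g1 * (b * x * b⁻¹)
      rw [hg1]
      calc b * x * b⁻¹ * (b * g * b⁻¹) = b * (x * g) * b⁻¹ := by group
        _ = _ := by rw [hxg]; group
    have c2 : Commute (b * x * b⁻¹) (g * g1)⁻¹ := by
      show b * x * b⁻¹ * (g * g1)⁻¹ = (g * g1)⁻¹ * (b * x * b⁻¹)
      rw [← g2eq]
      calc b * x * b⁻¹ * (b * g1 * b⁻¹) = b * (x * g1) * b⁻¹ := by group
        _ = _ := by rw [hxg1]; group
    have c3 := (Commute.inv_right_iff.1 c2).mul_right c1.inv_right
    rw [mul_inv_cancel_right] at c3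
    exact mX.2 ⟨C.norm x hxT, c3.eq, c1.eq⟩
  have commr : ∀ x ∈ X, ∀ r, (r = 1 ∨ r = g ∨ r = g1 ∨ r = g * g1) → Commute r x := by
    intro x hx r hr
    obtain ⟨-, h1, h2⟩ := mX.1 hx
    rcases hr with rfl | rfl | rfl | rfl
    exacts [Commute.one_left _, h1.symm, h2.symm,
      Commute.mul_left (show Commute g x from h1.symm) (show Commute g1 x from h2.symm)]
  have fact : ∀ t ∈ T, ∃ r, (r = 1 ∨ r = g ∨ r = g1 ∨ r = g * g1) ∧ r * t ∈ X := fun t ht => by
    obtain ⟨r, hr, h1, h2⟩ := correct t ht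
    exact ⟨r, hr, mX.2 ⟨mul_mem (hrT r hr) ht, h1, h2⟩⟩
  have zX : z ∈ X := mX.2 ⟨hgg.1, za, za1⟩
  by_cases hfix : ∀ x ∈ X, b * x * b⁻¹ = x
  · -- `T` is generated by `g` and `g1`
    left
    let K : Subgroup S := closure {g, g1}
    have hgK : g ∈ K := subset_closure (Or.inl rfl)
    have hg1K : g1 ∈ K := subset_closure (Or.inr rfl)
    have hrK : ∀ r, (r = 1 ∨ r = g ∨ r = g1 ∨ r = g * g1) → r ∈ K := by
      rintro r (rfl | rfl | rfl | rfl)
      exacts [one_mem K, hgK, hg1K, mul_mem hgK hg1K]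
    have hKb : K ≤ K.comap (MulAut.conj b).toMonoidHom := by
      refine (closure_le _).2 ?_
      rintro x (rfl | rfl)
      · exact hg1K
      · show b * g1 * b⁻¹ ∈ K
        rw [g2eq]
        exact inv_mem (mul_mem hgK hg1K)
    have hTK : T ≤ K := by
      refine C.gen.ge.trans (commutator_le.2 fun t ht s hs => ?_)
      obtain ⟨r, hr, hx⟩ := fact t ht
      have hsx : s * (r * t) = r * t * s := by
        have hb : b * (r * t) = r * t * b := by
          conv_rhs => rw [← hfix _ hx, inv_mul_cancel_right]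
        obtain ⟨n, rfl⟩ := mem_zpowers_iff.1 hs
        exact ((show Commute b (r * t) from hb).zpow_left n).eq
      have hsK : s * r * s⁻¹ ∈ K := by
        rcases C.hyp.b_cases hs with rfl | rfl | rfl
        · simpa using hrK r hr
        · exact hKb (hrK r hr)
        · have := hKb (hKb (hrK r hr))
          simpa [mul_assoc] using this
      have e : t * s * t⁻¹ * s⁻¹ = r⁻¹ * (s * r * s⁻¹) := by
        calc t * s * t⁻¹ * s⁻¹ = r⁻¹ * ((r * t) * s) * (r * t)⁻¹ * r * s⁻¹ := by group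
          _ = r⁻¹ * (s * (r * t)) * (r * t)⁻¹ * r * s⁻¹ := by rw [hsx]
          _ = r⁻¹ * (s * r * s⁻¹) := by group
      rw [commutatorElement_def, e]
      exact mul_mem (inv_mem (hrK r hr)) hsK
    refine ⟨g, z, ⟨hgT, hg1T, rfl, s1, hz2, hsq, hgg, C.fixZ z hgg, rel, fun t ht => ?_⟩⟩
    let P : S → Prop := fun t =>
      ∃ r, (r = 1 ∨ r = g ∨ r = g1 ∨ r = g * g1) ∧ (t = r ∨ t = z * r)
    have hPz : ∀ u, P u → P (z * u) := by
      rintro u ⟨r, hr, rfl | rfl⟩
      · exact ⟨u, hr, Or.inr rfl⟩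
      · exact ⟨r, hr, Or.inl (by rw [← mul_assoc, hz2, one_mul])⟩
    have hPg : ∀ u, P u → P (u * g) := by
      rintro u ⟨r, hr, h⟩
      have : P (r * g) := by
        rcases hr with rfl | rfl | rfl | rfl
        · exact ⟨g, Or.inr (Or.inl rfl), Or.inl (one_mul g)⟩
        · exact ⟨1, Or.inl rfl, Or.inr (mul_one z).symm⟩
        · exact ⟨g * g1, Or.inr (Or.inr (Or.inr rfl)), Or.inr rel⟩
        · refine ⟨g1, Or.inr (Or.inr (Or.inl rfl)), Or.inl ?_⟩
          calc g * g1 * g = g * z * (g * g1) := by rw [mul_assoc g g1, rel]; group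
            _ = z * (g * g) * g1 := by rw [← za]; group
            _ = g1 := by rw [← hzdef, hz2, one_mul]
      rcases h with rfl | rfl
      · exact this
      · rw [mul_assoc]; exact hPz _ this
    have hPg1 : ∀ u, P u → P (u * g1) := by
      rintro u ⟨r, hr, h⟩
      have : P (r * g1) := by
        rcases hr with hr | hr | hr | hr <;> rw [hr]
        · exact ⟨g1, Or.inr (Or.inr (Or.inl rfl)), Or.inl (one_mul g1)⟩
        · exact ⟨g * g1, Or.inr (Or.inr (Or.inr rfl)), Or.inl rfl⟩
        · exact ⟨1, Or.inl rfl, Or.inr (by rw [mul_one, s1])⟩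
        · exact ⟨g, Or.inr (Or.inl rfl), Or.inr (by rw [mul_assoc, s1, za])⟩
      rcases h with rfl | rfl
      · exact this
      · rw [mul_assoc]; exact hPz _ this
    have hgi : g⁻¹ = g * z := inv_eq_of_mul_eq_one_right (by rw [← mul_assoc, ← hzdef, hz2])
    have hg1i : g1⁻¹ = g1 * z := inv_eq_of_mul_eq_one_right (by rw [← mul_assoc, s1, hz2])
    have hPT : ∀ u, P u → u ∈ T := by
      rintro u ⟨r, hr, rfl | rfl⟩
      exacts [hrT u hr, mul_mem hgg.1 (hrT r hr)]
    refine closure_induction_right (p := fun u _ => P u) ?_ ?_ ?_ (hTK ht)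
    · exact ⟨1, Or.inl rfl, Or.inl rfl⟩
    · intro u _ y hy hu
      rcases hy with hy | hy <;> rw [hy]
      exacts [hPg u hu, hPg1 u hu]
    · intro u _ y hy hu
      rcases hy with hy | hy <;> rw [hy]
      · rw [hgi, ← mul_assoc, ← hgg.2 _ (mul_mem (hPT u hu) hgT)]
        exact hPz _ (hPg u hu)
      · rw [hg1i, ← mul_assoc, ← hgg.2 _ (mul_mem (hPT u hu) hg1T)]
        exact hPz _ (hPg1 u hu)
  · -- a second quaternion pair gives an involution
    push Not at hfix
    right
    obtain ⟨g', hg'X, hg's, hnc', hgg', hp'⟩ := C.exists_moved (X := X) inf_le_left hXb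
      (fun x hx h => ⟨(mX.1 hx).1, fun t ht => by
        obtain ⟨r, hr, hy⟩ := fact t ht
        have hc : Commute x (r⁻¹ * (r * t)) :=
          Commute.mul_right (commr x hx r hr).symm.inv_right (h _ hy)
        rw [inv_mul_cancel_left] at hc
        exact hc.eq⟩)
      (fun x hx h => ⟨(mX.1 hx).1, fun t ht => by
        obtain ⟨r, hr, hy⟩ := fact t ht
        set y := r * t
        set c := y * x * y⁻¹ * x⁻¹ with hc
        have hcc : Cen T c := h y hy
        have ht' : t = r⁻¹ * y := (inv_mul_cancel_left r t).symm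
        have e : t * x * t⁻¹ * x⁻¹ = c := by
          calc t * x * t⁻¹ * x⁻¹ = r⁻¹ * (c * x) * r * x⁻¹ := by rw [ht', hc]; group
            _ = r⁻¹ * c * (x * r) * x⁻¹ := by group
            _ = r⁻¹ * (c * r) := by rw [← (commr x hx r hr).eq]; group
            _ = c := by rw [hcc.2 r (hrT r hr), inv_mul_cancel_left]
        rw [e]; exact hcc⟩) hfix
    set g1' := b * g' * b⁻¹ with hg1'
    have hg1'X : g1' ∈ X := hXb g' hg'X
    obtain ⟨-, cgg, cg1g⟩ := mX.1 hg'X
    obtain ⟨-, cgg', cg1g'⟩ := mX.1 hg1'X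
    by_cases hsq' : g' * g' = 1
    · exfalso
      have hne' : g' ≠ 1 := fun e => hnc' (e ▸ Cen.one T)
      have F' := four_mk C.hyp.cube hsq' hp' hne'
      have := F'.commute_conj C.hyp (x := g) cgg.symm cgg'.symm cg1g.symm cg1g'.symm
      exact hsq (mul_eq_right.1 (rel.symm.trans this.symm))
    obtain ⟨hz2', -, -⟩ := C.quat_rel hg's hgg' hp'
    have hzz : g' * g' = z := C.unique_invol hgg' hgg hz2' hz2 hsq' hsq
    have h2 : g * g' * (g * g') = 1 := by
      calc g * g' * (g * g') = g * (g' * g) * g' := by group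
        _ = (g * g) * (g' * g') := by rw [cgg]; group
        _ = 1 := by rw [hzz, ← hzdef, hz2]
    have hnch : ¬ Cen T (g * g') := fun h => by
      have e := h.2 g1 hg1T
      have e' : (g * g1) * g' = (g1 * g) * g' := by
        calc (g * g1) * g' = g * (g1 * g') := by group
          _ = g * g' * g1 := by rw [← cg1g]; group
          _ = g1 * (g * g') := e
          _ = (g1 * g) * g' := by group
      exact hsq (mul_eq_right.1 (rel.symm.trans (mul_right_cancel e').symm))
    have hph : g * g' * (b * (g * g') * b⁻¹) * (b * (b * (g * g') * b⁻¹) * b⁻¹) = 1 := by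
      set g2 := b * g1 * b⁻¹ with hg2
      set g2' := b * g1' * b⁻¹ with hg2'
      have c1 : Commute g' g1 := cg1g
      have c2 : Commute (g' * g1') g2 := by
        rw [g2eq]
        exact (((show Commute g' g from cgg).mul_left cgg').mul_right
          ((show Commute g' g1 from cg1g).mul_left cg1g')).inv_right
      calc g * g' * (b * (g * g') * b⁻¹) * (b * (b * (g * g') * b⁻¹) * b⁻¹)
          = g * (g' * g1) * g1' * g2 * g2' := by rw [hg2, hg2', hg1, hg1']; group
        _ = g * (g1 * g') * g1' * g2 * g2' := by rw [c1.eq]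
        _ = g * g1 * ((g' * g1') * g2) * g2' := by group
        _ = g * g1 * (g2 * (g' * g1')) * g2' := by rw [c2.eq]
        _ = (g * g1 * g2) * (g' * g1' * g2') := by group
        _ = 1 := by rw [hp, hp', mul_one]
    obtain ⟨zz, e, R⟩ := frame_exists C (mul_mem hgs hg's) hnch h2 hph
    exact R.big C

end Ctx

end CfsgLib.CubicBlock
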