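import Cfsg.Agent.CubicBlock.Quat
import Cfsg.Agent.Solvable.CoprimeAct

/-!
The 2-groups of the form `⁅K, ⟨b⟩⁆`: trivial, a four group, quaternion or big.
-/

set_option autoImplicit false
set_option linter.unusedSectionVars false

namespace CfsgLib.CubicBlock

open Subgroup

variable {S : Type*} [Group S] [Finite S] {E : Type*} [AddCommGroup E] [Module (ZMod 3) E]
  [Finite E] {ρ : Representation (ZMod 3) S E} {b : S}

/-- The four possible shapes. -/
def Shape (ρ : Representation (ZMod 3) S E) (b : S) (T : Subgroup S) : Prop :=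
  T = ⊥ ∨ (∃ g, ∃ F : Four b g, T = fourGroup F) ∨ Quat b T ∨ Big ρ b T

/-- A moved central element gives a moved central four group. -/
theorem exists_central_four (H : Hyp ρ b) {T : Subgroup S} (hT : IsPGroup 2 T)
    (hn : ∀ t ∈ T, b * t * b⁻¹ ∈ T) {f : S} (hf : Cen T f) (hcb : Cen T (b * f * b⁻¹))
    (hfb : b * f * b⁻¹ ≠ f) : ∃ g, Cen T g ∧ Cen T (b * g * b⁻¹) ∧ Four b g := by
  induction hk : orderOf f using Nat.strong_induction_on generalizing f with
  | _ n ih =>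
    subst hk
    set g := f⁻¹ * (b * f * b⁻¹) with hg
    have hg1 : g ≠ 1 := fun e => hfb (inv_mul_eq_one.1 e).symm
    have hcg : Cen T g := hf.inv.mul hcb
    have conjCen : ∀ x, Cen T x → Cen T (b * x * b⁻¹) := by
      intro x hx
      refine ⟨hn x hx.1, fun t ht => ?_⟩
      have ht' : b⁻¹ * t * b ∈ T := by
        have e : b⁻¹ * t * b = b * (b * t * b⁻¹) * b⁻¹ := by
          have h := conj_cube H.cube (b⁻¹ * t * b)
          rw [show b * (b⁻¹ * t * b) * b⁻¹ = t by group] at h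
          exact h.symm
        rw [e]; exact hn _ (hn t ht)
      calc b * x * b⁻¹ * t = b * (x * (b⁻¹ * t * b)) * b⁻¹ := by group
        _ = _ := by rw [hx.2 _ ht']; group
    by_cases hsq : g * g = 1
    · exact ⟨g, hcg, conjCen g hcg, four_mk H.cube hsq (telescope H.cube f) hg1⟩
    have hcomm : Commute f (b * f * b⁻¹) := hf.2 _ hcb.1
    have e : (f * f)⁻¹ * (b * (f * f) * b⁻¹) = g * g := by
      calc (f * f)⁻¹ * (b * (f * f) * b⁻¹)
          = f⁻¹ * (f⁻¹ * (b * f * b⁻¹)) * (b * f * b⁻¹) := by group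
        _ = f⁻¹ * ((b * f * b⁻¹) * f⁻¹) * (b * f * b⁻¹) := by rw [hcomm.inv_left.eq]
        _ = g * g := by rw [hg]; group
    refine ih _ ?_ (hf.mul hf) (conjCen _ (hf.mul hf))
      (fun h => hsq (by rw [← e, h, inv_mul_cancel])) rfl
    obtain ⟨k, hk⟩ := hT ⟨f, hf.1⟩
    have h2 : f ^ 2 ^ k = 1 := congrArg Subtype.val hk
    obtain ⟨m, -, hm⟩ := (Nat.dvd_prime_pow Nat.prime_two).1 (orderOf_dvd_of_pow_eq_one h2)
    have hm0 : m ≠ 0 := fun h0 => hfb (by
      rw [orderOf_eq_one_iff.1 (by rw [hm, h0, pow_zero] : orderOf f = 1)]; simp)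
    rw [← pow_two, orderOf_pow' f two_ne_zero, hm, Nat.gcd_eq_right (dvd_pow_self 2 hm0)]
    exact Nat.div_lt_self (by positivity) one_lt_two

/-- The shape of `T = ⁅T, ⟨b⟩⁆`. -/
theorem shape_of_gen (H : Hyp ρ b) {T : Subgroup S} (hT : IsPGroup 2 T)
    (hn : ∀ t ∈ T, b * t * b⁻¹ ∈ T) (hgen : ⁅T, zpowers b⁆ = T) : Shape ρ b T := by
  by_cases hfix : ∀ z, Cen T z → b * z * b⁻¹ = z
  · by_cases hne : T = ⊥
    · exact Or.inl hne
    have C : Ctx ρ b T := ⟨H, hT, hn, hgen, hfix⟩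
    exact Or.inr (Or.inr (C.quat_or_big hne))
  push Not at hfix
  obtain ⟨z, hz, hzb⟩ := hfix
  have hcb : Cen T (b * z * b⁻¹) := by
    refine ⟨hn z hz.1, fun t ht => ?_⟩
    have ht' : b⁻¹ * t * b ∈ T := by
      have h := conj_cube H.cube (b⁻¹ * t * b)
      rw [show b * (b⁻¹ * t * b) * b⁻¹ = t by group] at h
      rw [← h]; exact hn _ (hn t ht)
    calc b * z * b⁻¹ * t = b * (z * (b⁻¹ * t * b)) * b⁻¹ := by group
      _ = _ := by rw [hz.2 _ ht']; group
  obtain ⟨g, hg, hg1, F⟩ := exists_central_four H hT hn hz hcb hzb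
  refine Or.inr (Or.inl ⟨g, F, le_antisymm ?_ (fourGroup_le F hg.1 hg1.1)⟩)
  calc T = ⁅T, zpowers b⁆ := hgen.symm
    _ ≤ fourGroup F := F.commutator_le H fun t ht => ⟨(hg.2 t ht).symm, (hg1.2 t ht).symm⟩

theorem norm_le (H : Hyp ρ b) {K : Subgroup S} (hK : ∀ t ∈ K, b * t * b⁻¹ ∈ K) :
    zpowers b ≤ normalizer (K : Set S) := by
  refine zpowers_le.2 (mem_normalizer_iff.2 fun x => ⟨hK x, fun hx => ?_⟩)
  have h := conj_cube H.cube x
  rw [← h]
  exact hK _ (hK _ hx)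

/-- The shape of `⁅K, ⟨b⟩⁆` for a 2-group `K` normalised by `b`. -/
theorem shape_commutator (H : Hyp ρ b) {K : Subgroup S} (hK : IsPGroup 2 K)
    (hn : ∀ t ∈ K, b * t * b⁻¹ ∈ K) :
    Shape ρ b ⁅K, zpowers b⁆ ∧ ⁅⁅K, zpowers b⁆, zpowers b⁆ = ⁅K, zpowers b⁆ := by
  haveI : Fact (Nat.Prime 2) := ⟨Nat.prime_two⟩
  have hA := norm_le H hn
  have hcop : (Nat.card (zpowers b)).Coprime (Nat.card K) := by
    obtain ⟨j, hj⟩ := IsPGroup.iff_card.1 hK
    rw [hj, Nat.card_zpowers]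
    refine Nat.Coprime.pow_right j ((Nat.Coprime.coprime_dvd_left
      (orderOf_dvd_of_pow_eq_one H.cube) (by norm_num)))
  have hsolv : Group.IsSolvable K := by
    haveI := hK.isNilpotent
    infer_instance
  have hgen := CoprimeAct.commutator_commutator hA hcop (Or.inr hsolv)
  refine ⟨shape_of_gen H (hK.to_le (le_normalizer_iff_commutator_le_left.1 hA)) ?_ hgen, hgen⟩
  intro t ht
  exact (mem_normalizer_iff.1 (normalizer_commutator_ge_right K (zpowers b) (mem_zpowers b)) t).1 ht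

theorem Shape.card_le (H : Hyp ρ b) {T : Subgroup S} (h : Shape ρ b T) : Nat.card T ≤ 32 := by
  classical
  rcases h with rfl | ⟨g, F, rfl⟩ | ⟨a, z, D⟩ | ⟨h32, -⟩
  · simp
  · rw [(card_fourGroup H F).1]; norm_num
  · have hsub : (T : Set S) ⊆ (([1, a, b * a * b⁻¹, a * (b * a * b⁻¹), z * 1, z * a,
        z * (b * a * b⁻¹), z * (a * (b * a * b⁻¹))] : List S).toFinset : Set S) := by
      intro t ht
      obtain ⟨r, hr, ht'⟩ := D.cover t ht
      rcases hr with rfl | rfl | rfl | rfl <;> rcases ht' with rfl | rfl <;> simp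
    calc Nat.card T = (T : Set S).ncard := rfl
      _ ≤ _ := Set.ncard_le_ncard hsub (Finset.finite_toSet _)
      _ ≤ 32 := by
        rw [Set.ncard_coe_finset]
        exact (List.toFinset_card_le _).trans (by simp)
  · exact h32.le

end CfsgLib.CubicBlock
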